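import Mathlib
import Cfsg.Agent.Lib.PGroup.SubgroupsA8
import Cfsg.Agent.Lib.OddOrder.Final.Main

/-!
# Nonsolvable subgroups of the alternating group of degree eight with an odd normal subgroup

Such a subgroup has a normal subgroup of order three with quotient alternating or symmetric of
degree five.
-/

set_option autoImplicit false
set_option linter.style.haveILetI false

namespace CfsgLib.Sectional.OddCoreA8

open Equiv CfsgLib.PGroup.TrivialCores

/-- A commuting permutation of order dividing three fixes the support of a cycle of larger prime length. -/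
theorem fix_support {X : Type*} [Fintype X] [DecidableEq X] {s t : Perm X} {q : ℕ} (hq : q.Prime)
    (hq3 : q ≠ 3) (hs : s.IsCycle) (hcard : orderOf s = q) (hc : Commute t s) (ht : t ^ 3 = 1) {x : X}
    (hx : s x ≠ x) : t x = x := by
  have htx : s (t x) ≠ t x := fun e => hx (t.injective (by
    rw [show t (s x) = (t * s) x from rfl, hc.eq]; exact e))
  obtain ⟨i, hi⟩ := hs.exists_zpow_eq hx htx
  have key : ∀ n : ℕ, (t ^ n) x = ((s ^ i) ^ n) x := by
    intro n
    induction n with
    | zero => rfl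
    | succ n ih =>
      rw [pow_succ', Perm.mul_apply, ih, show t (((s ^ i) ^ n) x) = (t * (s ^ i) ^ n) x from rfl,
        ((hc.zpow_right i).pow_right n).eq, Perm.mul_apply, ← hi, pow_succ, Perm.mul_apply]
  have h3 : (s ^ (i * 3)) x = x := by
    rw [zpow_mul, show (3 : ℤ) = ((3 : ℕ) : ℤ) from rfl, zpow_natCast, ← key 3, ht]; rfl
  have hd : (q : ℤ) ∣ i * 3 := by
    rw [← hcard, orderOf_dvd_iff_zpow_eq_one]
    obtain ⟨n, hn⟩ : ∃ n : ℕ, s ^ (i * 3) = s ^ n := by
      obtain ⟨n, hn⟩ := (isOfFinOrder_of_finite s).mem_powers_iff_mem_zpowers.2 ⟨i * 3, rfl⟩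
      exact ⟨n, hn.symm⟩
    rw [hn] at h3 ⊢
    exact (hs.pow_eq_one_iff).2 ⟨x, hx, h3⟩
  have hqi : (q : ℤ) ∣ i := by
    rcases Int.Prime.dvd_mul' hq hd with h | h
    · exact h
    · refine absurd ?_ hq3
      exact (Nat.prime_dvd_prime_iff_eq hq Nat.prime_three).1 (by exact_mod_cast h)
  rw [← hi]
  obtain ⟨j, rfl⟩ := hqi
  rw [zpow_mul, zpow_natCast, ← hcard, pow_orderOf_eq_one, one_zpow]; rfl

/-- An element of prime order at least five on eight points is a cycle. -/
theorem isCycle_of_five_le {s : Perm (Fin 8)} {q : ℕ} (hq : q.Prime) (h5 : 5 ≤ q) (hs : orderOf s = q) :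
    s.IsCycle ∧ s.support.card = q := by
  obtain ⟨n, hn⟩ := Perm.cycleType_prime_order (σ := s) (by rw [hs]; exact hq)
  have hsum := s.sum_cycleType
  rw [hn, hs, Multiset.sum_replicate, smul_eq_mul] at hsum
  have := s.support.card_le_univ
  rw [Fintype.card_fin] at this
  obtain rfl : n = 0 := by
    by_contra h0
    have : 2 ≤ n + 1 := by omega
    have := Nat.mul_le_mul this h5
    omega
  exact ⟨Perm.card_cycleType_eq_one.mp (by rw [hn, Multiset.card_replicate]), by omega⟩

theorem card_alt : Nat.card (alternatingGroup (Fin 8)) = 20160 := by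
  rw [Nat.card_eq_fintype_card, card_alternatingGroup]; rfl

theorem isSolvable_of_ker {A B : Type*} [Group A] [Group B] (f : A →* B)
    (h1 : Group.IsSolvable f.ker) (h2 : Group.IsSolvable B) : Group.IsSolvable A :=
  solvable_of_ker_le_range f.ker.subtype f (le_of_eq f.ker.range_subtype.symm)

/-- A nontrivial odd normal subgroup contains a nontrivial normal subgroup of prime exponent. -/
theorem exists_elementary {K : Type*} [Group K] [Finite K] (R : Subgroup K) [hR : R.Normal]
    (hne : R ≠ ⊥) (hodd : Odd (Nat.card R)) :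
    ∃ (p : ℕ) (T : Subgroup K), p.Prime ∧ p ≠ 2 ∧ T.Normal ∧ T ≠ ⊥ ∧ (∀ a ∈ T, a ^ p = 1) ∧
      ∀ a ∈ T, ∀ b ∈ T, a * b = b * a := by
  have hs : Group.IsSolvable R := CfsgLib.OddOrder.Final.oddSolvable R hodd
  obtain ⟨n, hn⟩ := (Group.isSolvable_def R).mp hs
  classical
  have hex : ∃ n, derivedSeries R n = ⊥ := ⟨n, hn⟩
  obtain ⟨m, hm⟩ := Nat.exists_eq_succ_of_ne_zero (n := Nat.find hex) (fun h0 => hne (by
    have := Nat.find_spec hex
    rw [h0, derivedSeries_zero] at this
    rw [← Subgroup.card_eq_one, ← Subgroup.card_top (G := R), this, Subgroup.card_bot]))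
  let M : Subgroup R := derivedSeries R m
  have hM : M ≠ ⊥ := Nat.find_min hex (by omega)
  have hMab : ∀ a ∈ M, ∀ b ∈ M, a * b = b * a := fun a ha b hb => by
    have := Nat.find_spec hex
    rw [hm, derivedSeries_succ] at this
    rw [← commutatorElement_eq_one_iff_mul_comm, ← Subgroup.mem_bot, ← this]
    exact Subgroup.commutator_mem_commutator ha hb
  haveI : M.Characteristic := derivedSeries_characteristic R m
  haveI : (M.map R.subtype).Normal := inferInstance
  obtain ⟨p, hp, hpd⟩ := Nat.exists_prime_and_dvd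
    (show Nat.card M ≠ 1 from fun h => hM (Subgroup.card_eq_one.1 h))
  haveI := Fact.mk hp
  obtain ⟨x, hx⟩ := exists_prime_orderOf_dvd_card' (G := M) p hpd
  have hp2 : p ≠ 2 := fun e =>
    (Nat.not_even_iff_odd.2 hodd) (even_iff_two_dvd.2 (e ▸ hpd.trans M.card_subgroup_dvd_card))
  have hMR : ∀ a ∈ M.map R.subtype, ∀ b ∈ M.map R.subtype, a * b = b * a := by
    rintro _ ⟨a, ha, rfl⟩ _ ⟨b, hb, rfl⟩
    rw [← map_mul, ← map_mul, hMab a ha b hb]
  let T : Subgroup K :=
    { carrier := {a | a ∈ M.map R.subtype ∧ a ^ p = 1}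
      mul_mem' := fun {a b} ha hb => ⟨mul_mem ha.1 hb.1, by
        rw [(show Commute a b from hMR a ha.1 b hb.1).mul_pow, ha.2, hb.2, one_mul]⟩
      one_mem' := ⟨one_mem _, one_pow _⟩
      inv_mem' := fun {a} ha => ⟨inv_mem ha.1, by rw [inv_pow, ha.2, inv_one]⟩ }
  refine ⟨p, T, hp, hp2, ⟨fun a ha g => ⟨Subgroup.Normal.conj_mem inferInstance a ha.1 g, by
    rw [conj_pow, ha.2, mul_one, mul_inv_cancel]⟩⟩, ?_, fun a ha => ha.2,
    fun a ha b hb => hMR a ha.1 b hb.1⟩
  intro hT
  have hmem : ((x : R) : K) ∈ T := ⟨⟨x, x.2, rfl⟩, by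
    rw [← Subgroup.coe_pow, ← Subgroup.coe_pow, ← hx, pow_orderOf_eq_one]; rfl⟩
  rw [hT, Subgroup.mem_bot] at hmem
  rw [show x = 1 from Subtype.ext (Subtype.ext hmem), orderOf_one] at hx
  exact hp.one_lt.ne hx

/-- The structure of a nonsolvable subgroup with an odd normal subgroup. -/
theorem structure_odd {K : Subgroup (Perm (Fin 8))} (hK : K ≤ alternatingGroup (Fin 8))
    (hns : ¬ Group.IsSolvable K) (R : Subgroup K) [R.Normal] (hne : R ≠ ⊥) (hodd : Odd (Nat.card R)) :
    ∃ π : K →* Perm (Fin 5), Nat.card π.ker = 3 ∧ ¬ Group.IsSolvable π.range := by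
  classical
  obtain ⟨p, T, hp, hp2, hTn, hT0, hTp, hTab⟩ := exists_elementary R hne hodd
  haveI := hTn
  have hd : Nat.card K ∣ 20160 := card_alt ▸ Subgroup.card_dvd_of_le hK
  haveI := Fact.mk hp
  have hTpg : IsPGroup p T := fun a => ⟨1, Subtype.ext (by rw [pow_one]; exact hTp a a.2)⟩
  obtain ⟨k, hk⟩ := IsPGroup.iff_card.mp hTpg
  have hk0 : k ≠ 0 := fun h => hT0 (Subgroup.card_eq_one.1 (by rw [hk, h, pow_zero]))
  have hTd : p ^ k ∣ 20160 := hk ▸ (T.card_subgroup_dvd_card.trans hd)
  have hpd : p ∣ 20160 := (dvd_pow_self p hk0).trans hTd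
  have hp357 : p = 3 ∨ p = 5 ∨ p = 7 := by
    have hle : p ≤ 7 := by
      by_contra h
      push Not at h
      have : p ∣ 2 ^ 6 * (3 ^ 2 * (5 * 7)) := by norm_num; exact hpd
      rcases (Nat.Prime.dvd_mul hp).1 this with h' | h'
      · have := Nat.le_of_dvd (by norm_num) (hp.dvd_of_dvd_pow h'); omega
      rcases (Nat.Prime.dvd_mul hp).1 h' with h' | h'
      · have := Nat.le_of_dvd (by norm_num) (hp.dvd_of_dvd_pow h'); omega
      rcases (Nat.Prime.dvd_mul hp).1 h' with h' | h'
      · have := Nat.le_of_dvd (by norm_num) h'; omega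
      · have := Nat.le_of_dvd (by norm_num) h'; omega
    have := hp.two_le
    interval_cases p <;> first | omega | (norm_num at hp)
  -- the action by conjugation
  let c : K →* MulAut T := MulAut.conjNormal
  rcases hp357 with rfl | h57
  swap
  · -- a cyclic normal subgroup of order five or seven makes the group solvable
    exfalso
    have h5 : 5 ≤ p := by rcases h57 with rfl | rfl <;> norm_num
    have hk1 : k = 1 := by
      by_contra hne'
      have : p ^ 2 ∣ 20160 := (pow_dvd_pow p (by omega)).trans hTd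
      rcases h57 with rfl | rfl <;> norm_num at this
    have hcard : Nat.card T = p := by rw [hk, hk1, pow_one]
    haveI : IsCyclic T := isCyclic_of_prime_card hcard
    obtain ⟨t, ht⟩ := exists_prime_orderOf_dvd_card' (G := T) p (by rw [hcard])
    have hto : orderOf ((t : K) : Perm (Fin 8)) = p := by
      rw [Subgroup.orderOf_coe, Subgroup.orderOf_coe, ht]
    obtain ⟨htc, hts⟩ := isCycle_of_five_le hp h5 hto
    have hA : Group.IsSolvable (MulAut T) := by
      exact Group.isSolvable_of_comm fun a b => (IsCyclic.mulAutMulEquiv T).injective (by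
        rw [map_mul, map_mul, mul_comm])
    refine hns (isSolvable_of_ker c ?_ hA)
    set τ := ((t : K) : Perm (Fin 8)) with hτ
    have hcomm : ∀ g : c.ker, Commute ((g : K) : Perm (Fin 8)) τ := fun g => by
      have h := congrArg (fun a : T => ((a : K) : Perm (Fin 8)))
        (show c g t = t from by rw [MonoidHom.mem_ker.1 g.2]; rfl)
      simp only [c, MulAut.conjNormal_apply, Subgroup.coe_mul, Subgroup.coe_inv] at h
      exact mul_inv_eq_iff_eq_mul.1 h
    have hinv : ∀ (g : c.ker) (x : Fin 8), τ (((g : K) : Perm (Fin 8)) x) = ((g : K) : Perm (Fin 8)) x ↔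
        τ x = x := fun g x => by
      rw [show τ (((g : K) : Perm (Fin 8)) x) = (τ * (g : K)) x from rfl, ← (hcomm g).eq,
        Perm.mul_apply, (((g : K) : Perm (Fin 8))).injective.eq_iff]
    let r : c.ker →* Perm {x : Fin 8 // τ x = x} :=
      { toFun := fun g => ((g : K) : Perm (Fin 8)).subtypePerm (hinv g)
        map_one' := Equiv.ext fun _ => rfl
        map_mul' := fun _ _ => Equiv.ext fun _ => rfl }
    have hfixcard : Nat.card {x : Fin 8 // τ x = x} ≤ 4 := by
      have e : Fintype.card {x : Fin 8 // τ x = x} = Fintype.card {x : Fin 8 // x ∉ τ.support} :=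
        Fintype.card_congr (Equiv.subtypeEquivRight fun x => by simp [Perm.mem_support])
      rw [Nat.card_eq_fintype_card, e, Fintype.card_subtype_compl, Fintype.card_fin,
        Fintype.card_coe, hts]
      omega
    refine isSolvable_of_ker r ?_ (isSolvable_perm_of_card_le hfixcard)
    -- on the support the kernel consists of powers of the cycle
    exact Group.isSolvable_of_comm fun g h => by
      refine Subtype.ext (Subtype.ext (Subtype.ext (Equiv.ext fun x => ?_)))
      by_cases hx : τ x = x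
      · have e : ∀ g : r.ker, (((g : c.ker) : K) : Perm (Fin 8)) x = x := fun g =>
          (congrArg Subtype.val (DFunLike.congr_fun (MonoidHom.mem_ker.1 g.2) ⟨x, hx⟩) :)
        show (((g : c.ker) : K) : Perm (Fin 8)) ((((h : c.ker) : K) : Perm (Fin 8)) x) =
          (((h : c.ker) : K) : Perm (Fin 8)) ((((g : c.ker) : K) : Perm (Fin 8)) x)
        rw [e h, e g, e h]
      · have e : ∀ g : r.ker, ∃ i : ℤ, ∀ y, τ y ≠ y →
            (((g : c.ker) : K) : Perm (Fin 8)) y = (τ ^ i) y := fun g => by
          have hgx : τ ((((g : c.ker) : K) : Perm (Fin 8)) x) ≠ (((g : c.ker) : K) : Perm (Fin 8)) x :=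
            fun e => hx ((hinv g x).1 e)
          obtain ⟨i, hi⟩ := htc.exists_zpow_eq hx hgx
          refine ⟨i, fun y hy => ?_⟩
          obtain ⟨j, rfl⟩ := htc.exists_zpow_eq hx hy
          show ((((g : c.ker) : K) : Perm (Fin 8)) * τ ^ j) x = (τ ^ i * τ ^ j) x
          rw [((hcomm g).zpow_right j).eq, (Commute.zpow_zpow_self τ i j).eq, Perm.mul_apply,
            Perm.mul_apply, hi]
        obtain ⟨i, hi⟩ := e g
        obtain ⟨j, hj⟩ := e h
        have hgx : ∀ i : ℤ, τ ((τ ^ i) x) ≠ (τ ^ i) x := fun i e => hx ((τ ^ i).injective (by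
          rw [show (τ ^ i) (τ x) = (τ ^ i * τ) x from rfl, (Commute.self_zpow τ i).symm.eq]; exact e))
        show (((g : c.ker) : K) : Perm (Fin 8)) ((((h : c.ker) : K) : Perm (Fin 8)) x) =
          (((h : c.ker) : K) : Perm (Fin 8)) ((((g : c.ker) : K) : Perm (Fin 8)) x)
        rw [hj x hx, hi x hx, hi _ (hgx j), hj _ (hgx i), ← Perm.mul_apply, ← Perm.mul_apply,
          (Commute.zpow_zpow_self τ i j).eq]
  -- `p = 3`: an element of order five or seven centralizes `T`
  have hk2 : k ≤ 2 := by
    by_contra h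
    have : 3 ^ 3 ∣ 20160 := (pow_dvd_pow 3 (by omega)).trans hTd
    norm_num at this
  obtain ⟨q, hq, hq57, hqd⟩ : ∃ q, q.Prime ∧ (q = 5 ∨ q = 7) ∧ q ∣ Nat.card K := by
    by_contra hno
    push Not at hno
    refine hns (CfsgLib.Recognition.DerangementClasses.solvable_of_few ?_)
    refine le_trans (Finset.card_le_card (t := {2, 3}) fun r hr => ?_) (by simp)
    obtain ⟨hr1, hr2, -⟩ := Nat.mem_primeFactors.1 hr
    have hr' := hr2.trans hd
    rw [show (20160 : ℕ) = 2 ^ 6 * (3 ^ 2 * (5 * 7)) by norm_num] at hr'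
    rcases (Nat.Prime.dvd_mul hr1).1 hr' with h' | h'
    · simp [(Nat.prime_dvd_prime_iff_eq hr1 Nat.prime_two).1 (hr1.dvd_of_dvd_pow h')]
    rcases (Nat.Prime.dvd_mul hr1).1 h' with h' | h'
    · simp [(Nat.prime_dvd_prime_iff_eq hr1 Nat.prime_three).1 (hr1.dvd_of_dvd_pow h')]
    rcases (Nat.Prime.dvd_mul hr1).1 h' with h' | h'
    · exact absurd hr2 (hno r hr1 (Or.inl ((Nat.prime_dvd_prime_iff_eq hr1 Nat.prime_five).1 h')))
    · exact absurd hr2 (hno r hr1 (Or.inr ((Nat.prime_dvd_prime_iff_eq hr1 (by norm_num)).1 h')))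
  have hq5 : 5 ≤ q := by rcases hq57 with rfl | rfl <;> norm_num
  haveI := Fact.mk hq
  obtain ⟨s, hs⟩ := exists_prime_orderOf_dvd_card' (G := K) q hqd
  have hcomm : ∀ t : T, Commute ((t : K) : Perm (Fin 8)) (s : Perm (Fin 8)) := by
    let S := Subgroup.zpowers (c s)
    have hS : IsPGroup q S := by
      refine IsPGroup.of_card (n := if c s = 1 then 0 else 1) ?_
      rw [Nat.card_zpowers]
      split_ifs with h
      · rw [h, orderOf_one, pow_zero]
      · rw [pow_one]
        exact ((Nat.dvd_prime hq).1 (hs ▸ orderOf_map_dvd c s)).resolve_left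
          fun e => h (orderOf_eq_one_iff.1 e)
    have hmod := hS.card_modEq_card_fixedPoints (α := T)
    let Fx : Subgroup T :=
      { carrier := {t | c s t = t}
        one_mem' := map_one _
        mul_mem' := fun {a b} ha hb => by show c s (a * b) = a * b; rw [map_mul, ha, hb]
        inv_mem' := fun {a} ha => by show c s a⁻¹ = a⁻¹; rw [map_inv, ha] }
    have hfx : Nat.card (MulAction.fixedPoints S T) = Nat.card Fx :=
      Nat.card_congr (Equiv.subtypeEquivRight fun t => by
        constructor
        · intro h; exact h ⟨c s, Subgroup.mem_zpowers _⟩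
        · rintro h ⟨g, hg⟩
          obtain ⟨i, rfl⟩ := Subgroup.mem_zpowers_iff.1 hg
          exact MulAction.mem_stabilizer_iff.1 (zpow_mem
            (show c s ∈ MulAction.stabilizer (MulAut T) t from h) i))
    rw [hfx] at hmod
    have hdvd : Nat.card Fx ∣ 3 ^ k := hk ▸ Fx.card_subgroup_dvd_card
    obtain ⟨j, hj, hje⟩ := (Nat.dvd_prime_pow Nat.prime_three).1 hdvd
    rw [hk, hje] at hmod
    have htop : Fx = ⊤ := by
      refine Subgroup.eq_top_of_card_eq _ ?_
      rw [hje, hk]
      rcases hq57 with rfl | rfl <;> interval_cases k <;> interval_cases j <;>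
        simp_all [Nat.ModEq]
    intro t
    have h := congrArg (fun a : T => ((a : K) : Perm (Fin 8)))
      (show c s t = t from (htop ▸ Subgroup.mem_top t : t ∈ Fx))
    simp only [c, MulAut.conjNormal_apply, Subgroup.coe_mul, Subgroup.coe_inv] at h
    exact (mul_inv_eq_iff_eq_mul.1 h).symm
  have hso : orderOf (s : Perm (Fin 8)) = q := by rw [Subgroup.orderOf_coe, hs]
  obtain ⟨hsc, hss⟩ := isCycle_of_five_le hq hq5 hso
  have hfix : ∀ (t : T) (x : Fin 8), (s : Perm (Fin 8)) x ≠ x → ((t : K) : Perm (Fin 8)) x = x :=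
    fun t x hx => fix_support hq (by omega) hsc hso (hcomm t)
      (by rw [← Subgroup.coe_pow, ← Subgroup.coe_pow]; exact congrArg Subtype.val (hTp t t.2)) hx
  obtain ⟨t0, ht0⟩ := exists_prime_orderOf_dvd_card' (G := T) 3 (by rw [hk]; exact dvd_pow_self 3 hk0)
  have ht0' : orderOf ((t0 : K) : Perm (Fin 8)) = 3 := by
    rw [Subgroup.orderOf_coe, Subgroup.orderOf_coe, ht0]
  set τ := ((t0 : K) : Perm (Fin 8)) with hτ
  have hsub : ∀ t : T, ((t : K) : Perm (Fin 8)).support ⊆ (s : Perm (Fin 8)).supportᶜ := fun t x hx => by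
    rw [Finset.mem_compl, Perm.mem_support, not_not]
    by_contra hx'
    exact Perm.mem_support.1 hx (hfix t x hx')
  have hτ3 : 3 ≤ τ.support.card := by
    rcases Nat.lt_or_ge τ.support.card 3 with h | h
    · have h2 : τ.support.card = 0 ∨ τ.support.card = 1 ∨ τ.support.card = 2 := by omega
      rcases h2 with h2 | h2 | h2
      · rw [Finset.card_eq_zero, Perm.support_eq_empty_iff] at h2
        rw [h2, orderOf_one] at ht0'; omega
      · exact absurd h2 (Perm.card_support_ne_one τ)
      · have hsw := Perm.card_support_eq_two.1 h2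
        rw [hsw.orderOf] at ht0'; omega
    · exact h
  have hcompl : (s : Perm (Fin 8)).supportᶜ.card = 8 - q := by
    rw [Finset.card_compl, Fintype.card_fin, hss]
  have hle := le_trans hτ3 (Finset.card_le_card (hsub t0))
  have hq5' : q = 5 := by rw [hcompl] at hle; rcases hq57 with rfl | rfl <;> omega
  subst hq5'
  have hOeq : τ.support = (s : Perm (Fin 8)).supportᶜ :=
    Finset.eq_of_subset_of_card_le (hsub t0) (by rw [hcompl]; omega)
  set O := (s : Perm (Fin 8)).supportᶜ with hO
  -- `T` lives on the three points of `O`, which `K` preserves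
  have hmemO : ∀ x, x ∈ O ↔ ∃ t : T, ((t : K) : Perm (Fin 8)) x ≠ x := fun x =>
    ⟨fun hx => ⟨t0, Perm.mem_support.1 (hOeq ▸ hx)⟩, fun ⟨t, ht⟩ => hsub t (Perm.mem_support.2 ht)⟩
  have hinv : ∀ (g : K) (x : Fin 8), (g : Perm (Fin 8)) x ∉ O ↔ x ∉ O := by
    have h1 : ∀ (g : K) (x : Fin 8), x ∈ O → (g : Perm (Fin 8)) x ∈ O := fun g x hx => by
      obtain ⟨t, ht⟩ := (hmemO x).1 hx
      refine (hmemO _).2 ⟨c g t, ?_⟩
      simp only [c, MulAut.conjNormal_apply, Subgroup.coe_mul, Subgroup.coe_inv, Perm.mul_apply,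
        Perm.inv_def, Equiv.symm_apply_apply, ne_eq, EmbeddingLike.apply_eq_iff_eq]
      exact ht
    intro g x
    refine not_congr ⟨fun h => ?_, h1 g x⟩
    have := h1 g⁻¹ _ h
    rwa [Subgroup.coe_inv, Perm.inv_def, Equiv.symm_apply_apply] at this
  have hF : Fintype.card {x : Fin 8 // x ∉ O} = 5 := by
    rw [Fintype.card_subtype_compl, Fintype.card_fin, Fintype.card_coe, hcompl]
  let e : Perm {x : Fin 8 // x ∉ O} ≃* Perm (Fin 5) := (Fintype.equivFinOfCardEq hF).permCongrHom
  let r : K →* Perm {x : Fin 8 // x ∉ O} :=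
    { toFun := fun g => (g : Perm (Fin 8)).subtypePerm (hinv g)
      map_one' := Equiv.ext fun _ => rfl
      map_mul' := fun _ _ => Equiv.ext fun _ => rfl }
  have hker : Nat.card r.ker = 3 := by
    let w : r.ker →* Perm {x : Fin 8 // x ∈ O} :=
      { toFun := fun g => ((g : K) : Perm (Fin 8)).subtypePerm fun x => not_iff_not.1 (hinv g x)
        map_one' := Equiv.ext fun _ => rfl
        map_mul' := fun _ _ => Equiv.ext fun _ => rfl }
    have hfixF : ∀ (g : r.ker) (x : Fin 8), x ∉ O → ((g : K) : Perm (Fin 8)) x = x := fun g x hx =>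
      (congrArg Subtype.val (DFunLike.congr_fun (MonoidHom.mem_ker.1 g.2) ⟨x, hx⟩) :)
    have hwinj : Function.Injective w := fun g h e => Subtype.ext (Subtype.ext (Equiv.ext fun x => by
      by_cases hx : x ∈ O
      · exact congrArg Subtype.val (DFunLike.congr_fun e ⟨x, hx⟩)
      · rw [hfixF g x hx, hfixF h x hx]))
    have heven : w.range ≤ alternatingGroup {x : Fin 8 // x ∈ O} := by
      rintro _ ⟨g, rfl⟩
      rw [Perm.mem_alternatingGroup]
      show Perm.sign (((g : K) : Perm (Fin 8)).subtypePerm fun x => not_iff_not.1 (hinv g x)) = 1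
      have h1 : Perm.sign ((g : K) : Perm (Fin 8)) = 1 := Perm.mem_alternatingGroup.mp (hK (g : K).2)
      rw [← h1]
      convert Perm.sign_subtypePerm ((g : K) : Perm (Fin 8))
        (fun x => not_iff_not.1 (hinv g x)) (fun x hx => by
          by_contra hxO
          exact hx (hfixF g x hxO))
    have hA3 : Nat.card (alternatingGroup {x : Fin 8 // x ∈ O}) = 3 := by
      have hn : Fintype.card {x : Fin 8 // x ∈ O} = 3 := by rw [Fintype.card_coe, hcompl]
      haveI : Nontrivial {x : Fin 8 // x ∈ O} := Fintype.one_lt_card_iff_nontrivial.1 (by omega)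
      rw [Nat.card_eq_fintype_card, card_alternatingGroup, hn]; rfl
    have ht0k : (t0 : K) ∈ r.ker := by
      rw [MonoidHom.mem_ker]
      refine Equiv.ext fun x => Subtype.ext ?_
      show τ x.1 = x.1
      by_contra hx
      exact x.2 (hsub t0 (Perm.mem_support.2 hx))
    have h1 : Nat.card r.ker ≤ 3 := by
      rw [← hA3]
      refine le_trans (le_of_eq (Nat.card_congr (MonoidHom.ofInjective hwinj).toEquiv)) ?_
      exact Subgroup.card_le_of_le heven
    refine le_antisymm h1 (Nat.le_of_dvd Nat.card_pos ?_)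
    have := Subgroup.orderOf_dvd_natCard r.ker ht0k
    rwa [Subgroup.orderOf_coe, ht0] at this
  refine ⟨e.toMonoidHom.comp r, ?_, fun hsol => hns ?_⟩
  · have : (e.toMonoidHom.comp r).ker = r.ker := by
      ext g
      rw [MonoidHom.mem_ker, MonoidHom.mem_ker]
      exact ⟨fun h => e.injective (h.trans (map_one e).symm), fun h => (congrArg e h).trans (map_one e)⟩
    rw [this, hker]
  · refine isSolvable_of_ker (e.toMonoidHom.comp r).rangeRestrict ?_ hsol
    rw [MonoidHom.ker_rangeRestrict]
    have hc3 : Nat.card (e.toMonoidHom.comp r).ker = 3 := by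
      have : (e.toMonoidHom.comp r).ker = r.ker := by
        ext g
        rw [MonoidHom.mem_ker, MonoidHom.mem_ker]
        exact ⟨fun h => e.injective (h.trans (map_one e).symm), fun h => (congrArg e h).trans (map_one e)⟩
      rw [this, hker]
    exact CfsgLib.Recognition.DerangementClasses.solvable_of_few
      (by rw [hc3, Nat.Prime.primeFactors Nat.prime_three]; simp)

/-- A nonsolvable subgroup of the symmetric group of degree five is alternating or symmetric. -/
theorem nonsolvable_five {K : Subgroup (Perm (Fin 5))} (hns : ¬ Group.IsSolvable K) :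
    K = alternatingGroup (Fin 5) ∨ K = ⊤ := by
  have hd : Nat.card K ∣ 120 := by
    have h := K.card_subgroup_dvd_card
    rwa [Nat.card_perm, Nat.card_fin, show Nat.factorial 5 = 120 from rfl] at h
  -- order divisible by three and five
  have hdiv : ∀ r : ℕ, r = 3 ∨ r = 5 → r ∣ Nat.card K := by
    intro r hr
    by_contra hno
    refine hns (CfsgLib.Recognition.DerangementClasses.solvable_of_few ?_)
    refine le_trans (Finset.card_le_card (t := if r = 3 then {2, 5} else {2, 3}) fun l hl => ?_)
      (by split_ifs <;> simp)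
    obtain ⟨l1, l2, -⟩ := Nat.mem_primeFactors.1 hl
    have hne : l ≠ r := fun e => hno (e ▸ l2)
    have h120 := l2.trans hd
    have hle : l ≤ 5 := by
      rw [show (120 : ℕ) = 2 ^ 3 * (3 * 5) by norm_num] at h120
      rcases (Nat.Prime.dvd_mul l1).1 h120 with h' | h'
      · have := Nat.le_of_dvd (by norm_num) (l1.dvd_of_dvd_pow h'); omega
      rcases (Nat.Prime.dvd_mul l1).1 h' with h' | h'
      · have := Nat.le_of_dvd (by norm_num) h'; omega
      · exact Nat.le_of_dvd (by norm_num) h'
    have := l1.two_le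
    rcases hr with rfl | rfl <;> interval_cases l <;> simp_all (config := { decide := true })
  have hidx := K.card_mul_index
  rw [Nat.card_perm, Nat.card_fin, show Nat.factorial 5 = 120 from rfl] at hidx
  have h15 : 15 ∣ Nat.card K :=
    Nat.Coprime.mul_dvd_of_dvd_of_dvd (show Nat.Coprime 3 5 by norm_num)
      (hdiv 3 (Or.inl rfl)) (hdiv 5 (Or.inr rfl))
  obtain ⟨m, hm⟩ := h15
  rw [hm] at hidx
  have hm8 : m ∣ 8 := ⟨K.index, by nlinarith⟩
  have hmle := Nat.le_of_dvd (by norm_num) hm8
  rcases Nat.lt_or_ge m 3 with hm' | hm'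
  · refine absurd (CfsgLib.Recognition.DerangementClasses.solvable_of_few (H := K) ?_) hns
    have hm12 : m = 1 ∨ m = 2 := by
      rcases Nat.eq_zero_or_pos m with h | h
      · rw [h, mul_zero] at hm; exact absurd hm Nat.card_pos.ne'
      · omega
    rw [hm]
    rcases hm12 with rfl | rfl
    · rw [show 15 * 1 = 3 * 5 from rfl, Nat.primeFactors_mul (by norm_num) (by norm_num),
        Nat.Prime.primeFactors Nat.prime_three, Nat.Prime.primeFactors Nat.prime_five]
      rfl
    · exact (no_thirty K hm hns).elim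
  · have hm48 : m = 4 ∨ m = 8 := by interval_cases m <;> first | omega | (exact absurd hm8 (by norm_num))
    rcases hm48 with rfl | rfl
    · exact Or.inl (Perm.eq_alternatingGroup_of_index_eq_two (by omega))
    · exact Or.inr (Subgroup.index_eq_one.1 (by omega))
where
  no_thirty (K : Subgroup (Perm (Fin 5))) (h30 : Nat.card K = 15 * 2) (hns : ¬ Group.IsSolvable K) :
      False := by
    obtain ⟨H, hH⟩ := CfsgLib.Involution.BrauerFowler.exists_index_two_of_two_odd (G := K)
      (by omega)
    haveI := Subgroup.normal_of_index_eq_two hH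
    have hc := H.card_mul_index
    rw [hH, h30] at hc
    refine hns (isSolvable_of_ker (QuotientGroup.mk' H) ?_ ?_)
    · rw [QuotientGroup.ker_mk']
      refine CfsgLib.Recognition.DerangementClasses.solvable_of_few ?_
      rw [show Nat.card H = 3 * 5 by omega, Nat.primeFactors_mul (by norm_num) (by norm_num),
        Nat.Prime.primeFactors Nat.prime_three, Nat.Prime.primeFactors Nat.prime_five]
      rfl
    · refine CfsgLib.Recognition.DerangementClasses.solvable_of_few ?_
      rw [show Nat.card (K ⧸ H) = 2 from hH, Nat.Prime.primeFactors Nat.prime_two]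
      simp

end CfsgLib.Sectional.OddCoreA8
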