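import Mathlib

/-!
# The alternating group of degree five acting on an elementary abelian group of order at most sixteen

A nontrivial action is irreducible on sixteen elements, every involution fixes exactly four of them and
there is at most one nonzero invariant quadratic form, which has five singular nonzero vectors.
-/

set_option autoImplicit false
set_option maxRecDepth 20000
set_option linter.style.haveILetI false
set_option linter.unusedSectionVars false

namespace CfsgLib.Sectional.A5Module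

universe u

/-- The alternating group of degree five. -/
abbrev A5 := alternatingGroup (Fin 5)

theorem generating_pair : ∀ t : A5, t * t = 1 → t ≠ 1 →
    ∃ g : A5, (t * (g * t * g⁻¹)) ^ 5 = 1 ∧ t * (g * t * g⁻¹) ≠ 1 := by
  decide +kernel

theorem exists_three : ∃ s : A5, s ^ 3 = 1 ∧ s ≠ 1 := by decide +kernel

theorem exists_five : ∃ s : A5, s ^ 5 = 1 ∧ s ≠ 1 := by decide +kernel

variable {V : Type u} [Group V] [Finite V]

/-- The fixed subgroup of an automorphism. -/
def fix (σ : MulAut V) : Subgroup V where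
  carrier := {v | σ v = v}
  one_mem' := map_one σ
  mul_mem' {a b} ha hb := by show σ (a * b) = a * b; rw [map_mul, ha, hb]
  inv_mem' {a} ha := by show σ a⁻¹ = a⁻¹; rw [map_inv, ha]

omit [Finite V] in
theorem mem_fix {σ : MulAut V} {v : V} : v ∈ fix σ ↔ σ v = v := Iff.rfl

/-- Orbit counting for a permutation of prime order. -/
theorem card_modEq_fixed {α : Type*} [Finite α] {p : ℕ} (hp : p.Prime) (σ : Equiv.Perm α)
    (h : σ ^ p = 1) : Nat.card α ≡ Nat.card {x : α // σ x = x} [MOD p] := by
  haveI := Fact.mk hp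
  have hS : IsPGroup p (Subgroup.zpowers σ) := fun g => ⟨1, by
    obtain ⟨g, hg⟩ := g
    obtain ⟨i, rfl⟩ := Subgroup.mem_zpowers_iff.1 hg
    refine Subtype.ext ?_
    rw [Subgroup.coe_pow, Subgroup.coe_one, pow_one, ← zpow_natCast, ← zpow_mul, mul_comm, zpow_mul,
      zpow_natCast, h, one_zpow]⟩
  have hmod := hS.card_modEq_card_fixedPoints (α := α)
  have hfx : Nat.card (MulAction.fixedPoints (Subgroup.zpowers σ) α) = Nat.card {x : α // σ x = x} :=
    Nat.card_congr (Equiv.subtypeEquivRight fun x => by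
      constructor
      · intro h'; exact h' ⟨σ, Subgroup.mem_zpowers σ⟩
      · rintro h' ⟨g, hg⟩
        obtain ⟨i, rfl⟩ := Subgroup.mem_zpowers_iff.1 hg
        exact MulAction.mem_stabilizer_iff.1
          (zpow_mem (show σ ∈ MulAction.stabilizer (Equiv.Perm α) x from h') i))
  rwa [hfx] at hmod

/-- Nontrivial action on an elementary abelian group of order at most sixteen. -/
structure Mod (φ : A5 →* MulAut V) : Prop where
  sq : ∀ v : V, v * v = 1
  card_le : Nat.card V ≤ 16
  nontrivial : φ ≠ 1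

namespace Mod

variable {φ : A5 →* MulAut V} (M : Mod φ)
include M

theorem comm (u v : V) : u * v = v * u := by
  have hi : ∀ w : V, w⁻¹ = w := fun w => inv_eq_of_mul_eq_one_right (M.sq w)
  rw [← hi (u * v), mul_inv_rev, hi, hi]

theorem injective : Function.Injective φ := by
  haveI : IsSimpleGroup A5 := alternatingGroup.isSimpleGroup (by rw [Nat.card_fin])
  rw [← MonoidHom.ker_eq_bot_iff]
  refine (inferInstance : φ.ker.Normal).eq_bot_or_eq_top.resolve_right fun h => M.nontrivial ?_
  exact MonoidHom.ker_eq_top_iff.1 h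

theorem exists_pow (W : Subgroup V) : ∃ j, j ≤ 4 ∧ Nat.card W = 2 ^ j := by
  haveI : Fact (Nat.Prime 2) := ⟨Nat.prime_two⟩
  have hp : IsPGroup 2 V := fun v => ⟨1, by rw [pow_one, pow_two]; exact M.sq v⟩
  obtain ⟨j, hj⟩ := IsPGroup.iff_card.1 (hp.to_subgroup W)
  refine ⟨j, ?_, hj⟩
  by_contra h
  have h1 := Nat.pow_le_pow_right (show 0 < 2 by norm_num) (show 5 ≤ j by omega)
  have h2 := W.card_le_card_group
  rw [← hj] at h1
  have := M.card_le
  omega

theorem five_data {a : A5} (h5 : a ^ 5 = 1) (h1 : a ≠ 1) :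
    Nat.card V = 16 ∧ ∀ v, φ a v = v → v = 1 := by
  have hp : ((φ a).toEquiv : Equiv.Perm V) ^ 5 = 1 := by
    have h : (φ a) ^ 5 = 1 := by rw [← map_pow, h5, map_one]
    have e : ∀ n : ℕ, ((φ a).toEquiv : Equiv.Perm V) ^ n = ((φ a) ^ n).toEquiv := by
      intro n
      induction n with
      | zero => rfl
      | succ n ih => rw [pow_succ, pow_succ, ih]; rfl
    rw [e, h]; rfl
  have hmod := card_modEq_fixed Nat.prime_five _ hp
  have hfix : Nat.card {x : V // (φ a).toEquiv x = x} = Nat.card (fix (φ a)) := rfl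
  rw [hfix] at hmod
  obtain ⟨j, hj, hje⟩ := M.exists_pow (fix (φ a))
  obtain ⟨k, hk, hke⟩ := M.exists_pow ⊤
  rw [Subgroup.card_top] at hke
  rw [hje, hke] at hmod
  have hne : j ≠ k := fun e => h1 (M.injective (by
    rw [map_one]
    refine MulEquiv.ext fun v => ?_
    have htop : fix (φ a) = ⊤ := Subgroup.eq_top_of_card_eq _ (by rw [hje, hke, e])
    exact (htop ▸ Subgroup.mem_top v : v ∈ fix (φ a))))
  have hle : 2 ^ j ≤ 2 ^ k := by rw [← hje, ← hke]; exact Subgroup.card_le_card_group _
  have hjk : j = 0 ∧ k = 4 := by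
    interval_cases j <;> interval_cases k <;> simp_all [Nat.ModEq]
  refine ⟨by rw [hke, hjk.2]; rfl, fun v hv => ?_⟩
  have hbot : fix (φ a) = ⊥ := Subgroup.card_eq_one.1 (by rw [hje, hjk.1, pow_zero])
  exact Subgroup.mem_bot.1 (hbot ▸ (hv : v ∈ fix (φ a)))

theorem card_eq : Nat.card V = 16 := by
  obtain ⟨a, h5, h1⟩ := exists_five
  exact (M.five_data h5 h1).1

/-- An invariant set avoiding the identity has cardinality divisible by five. -/
theorem five_dvd (Z : Set V) (hZ : ∀ a v, v ∈ Z → φ a v ∈ Z) (h1 : (1 : V) ∉ Z) : 5 ∣ Z.ncard := by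
  obtain ⟨a, h5, ha⟩ := exists_five
  have hiff : ∀ v, φ a v ∈ Z ↔ v ∈ Z := fun v => ⟨fun h => by
    have := hZ a⁻¹ _ h
    rwa [← MulAut.mul_apply, ← map_mul, inv_mul_cancel, map_one, MulAut.one_apply] at this, hZ a v⟩
  let σ : Equiv.Perm Z :=
    { toFun := fun v => ⟨φ a v, hZ a v v.2⟩
      invFun := fun v => ⟨φ a⁻¹ v, hZ a⁻¹ v v.2⟩
      left_inv := fun v => Subtype.ext (by
        show φ a⁻¹ (φ a v) = v
        rw [← MulAut.mul_apply, ← map_mul, inv_mul_cancel, map_one, MulAut.one_apply])
      right_inv := fun v => Subtype.ext (by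
        show φ a (φ a⁻¹ v) = v
        rw [← MulAut.mul_apply, ← map_mul, mul_inv_cancel, map_one, MulAut.one_apply]) }
  have hσ : ∀ (n : ℕ) (v : Z), ((σ ^ n) v : V) = φ (a ^ n) v := by
    intro n
    induction n with
    | zero => intro v; rw [pow_zero, pow_zero, map_one]; rfl
    | succ n ih =>
      intro v
      rw [pow_succ', pow_succ', map_mul, Equiv.Perm.mul_apply, MulAut.mul_apply, ← ih]
      rfl
  have hmod := card_modEq_fixed Nat.prime_five σ (Equiv.ext fun v => Subtype.ext (by
    rw [hσ, h5, map_one]; rfl))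
  haveI : IsEmpty {x : Z // σ x = x} := ⟨fun x => h1 (by
    have := (M.five_data h5 ha).2 x.1 (congrArg Subtype.val x.2)
    rw [← this]; exact x.1.2)⟩
  rw [Nat.card_of_isEmpty (α := {x : Z // σ x = x}), Nat.card_coe_set_eq] at hmod
  exact Nat.modEq_zero_iff_dvd.1 hmod

theorem irreducible (W : Subgroup V) (hW : ∀ a, ∀ v ∈ W, φ a v ∈ W) : W = ⊥ ∨ W = ⊤ := by
  have h := M.five_dvd ((W : Set V) \ {1})
    (fun a v hv => ⟨hW a v hv.1, fun e => hv.2 ((φ a).injective (by
      rw [Set.mem_singleton_iff.1 e, map_one]))⟩) (fun h => h.2 rfl)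
  rw [Set.ncard_sdiff_singleton_of_mem (one_mem W), ← Nat.card_coe_set_eq] at h
  obtain ⟨j, hj, hje⟩ := M.exists_pow W
  rw [show Nat.card (W : Set V) = Nat.card W from rfl, hje] at h
  have hj04 : j = 0 ∨ j = 4 := by interval_cases j <;> simp_all (config := { decide := true })
  rcases hj04 with rfl | rfl
  · exact Or.inl (Subgroup.card_eq_one.1 hje)
  · exact Or.inr (Subgroup.eq_top_of_card_eq _ (by rw [hje, M.card_eq]; rfl))

/-- An involution fixes exactly four elements, each of them a commutator. -/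
theorem involution {t : A5} (ht : t * t = 1) (ht1 : t ≠ 1) :
    Nat.card (fix (φ t)) = 4 ∧ ∀ v, φ t v = v → ∃ w, φ t w * w = v := by
  obtain ⟨g, hg5, hg1⟩ := generating_pair t ht ht1
  set s := g * t * g⁻¹
  have hmap : Nat.card (fix (φ s)) = Nat.card (fix (φ t)) := by
    refine Nat.card_congr ((φ g).toEquiv.subtypeEquiv fun v => ?_).symm
    show φ t v = v ↔ φ s (φ g v) = φ g v
    rw [← MulAut.mul_apply, ← map_mul, inv_mul_cancel_right, map_mul, MulAut.mul_apply,
      EmbeddingLike.apply_eq_iff_eq]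
  have hle : Nat.card (fix (φ t)) * Nat.card (fix (φ s)) ≤ 16 := by
    rw [← Nat.card_prod, ← M.card_eq]
    refine Nat.card_le_card_of_injective (fun q : fix (φ t) × fix (φ s) => (q.1 : V) * q.2) ?_
    rintro ⟨p, q⟩ ⟨p', q'⟩ h
    dsimp only at h
    have e : (p' : V)⁻¹ * p = (q' : V) * (q : V)⁻¹ := by
      rw [eq_mul_inv_iff_mul_eq, mul_assoc, h, inv_mul_cancel_left]
    have hz : (p' : V)⁻¹ * p = 1 := by
      refine (M.five_data hg5 hg1).2 _ ?_
      rw [show φ (t * s) = φ t * φ s from map_mul φ t s, MulAut.mul_apply]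
      have h1 : φ s ((p' : V)⁻¹ * p) = (p' : V)⁻¹ * p := by
        rw [e]; exact mul_mem q'.2 (inv_mem q.2)
      rw [h1]
      exact mul_mem (inv_mem p'.2) p.2
    refine Prod.ext (Subtype.ext (inv_mul_eq_one.1 hz).symm) (Subtype.ext ?_)
    rw [hz, eq_comm, mul_inv_eq_one] at e
    exact e.symm
  rw [hmap] at hle
  let δ : V →* V :=
    { toFun := fun v => φ t v * v
      map_one' := by simp
      map_mul' := fun u v => by
        rw [map_mul, mul_assoc, mul_assoc, ← mul_assoc (φ t v) u v, M.comm (φ t v) u, mul_assoc u] }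
  have htt : ∀ v, φ t (φ t v) = v := fun v => by
    rw [← MulAut.mul_apply, ← map_mul, ht, map_one, MulAut.one_apply]
  have hrange : δ.range ≤ fix (φ t) := by
    rintro _ ⟨v, rfl⟩
    show φ t (φ t v * v) = φ t v * v
    rw [map_mul, htt, M.comm]
  have hker : δ.ker = fix (φ t) := by
    ext v
    show φ t v * v = 1 ↔ φ t v = v
    exact ⟨fun h => (mul_eq_one_iff_eq_inv.1 h).trans (inv_eq_of_mul_eq_one_right (M.sq v)),
      fun h => by rw [h]; exact M.sq v⟩
  have hmul := Subgroup.card_mul_index δ.ker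
  rw [Subgroup.index_ker, hker, M.card_eq] at hmul
  have hr := Subgroup.card_le_of_le hrange
  have h4 : Nat.card (fix (φ t)) = 4 := by
    obtain ⟨j, hj, hje⟩ := M.exists_pow (fix (φ t))
    rw [hje] at hmul hle hr ⊢
    interval_cases j <;> omega
  refine ⟨h4, fun v hv => ?_⟩
  have heq : δ.range = fix (φ t) := Subgroup.eq_of_le_of_card_ge hrange (by rw [h4] at hmul ⊢; omega)
  exact (heq ▸ (hv : v ∈ fix (φ t)) : v ∈ δ.range)

/-- There are no three invariant sets of five nonidentity elements covering all of them. -/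
theorem no_three (Z : Fin 3 → Set V) (hZ : ∀ i a v, v ∈ Z i → φ a v ∈ Z i)
    (hone : ∀ v, v ≠ 1 → ∃! i, v ∈ Z i) (h1 : ∀ i, (1 : V) ∉ Z i) (h5 : ∀ i, (Z i).ncard = 5) :
    False := by
  classical
  obtain ⟨s, hs3, hs1⟩ := exists_three
  have key : ∀ i, Nat.card {v : Z i // φ s v = v} = 2 := by
    intro i
    letI : MulAction A5 (Z i) :=
      { smul := fun a v => ⟨φ a v, hZ i a v v.2⟩
        one_smul := fun v => Subtype.ext (by show φ 1 (v : V) = v; rw [map_one]; rfl)
        mul_smul := fun a b v => Subtype.ext (by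
          show φ (a * b) (v : V) = φ a (φ b v); rw [map_mul]; rfl) }
    let π := MulAction.toPermHom A5 (Z i)
    have hinj : Function.Injective π := by
      haveI : IsSimpleGroup A5 := alternatingGroup.isSimpleGroup (by rw [Nat.card_fin])
      rw [← MonoidHom.ker_eq_bot_iff]
      refine (inferInstance : π.ker.Normal).eq_bot_or_eq_top.resolve_right fun h => ?_
      obtain ⟨a, ha5, ha1⟩ := exists_five
      obtain ⟨v, hv⟩ := Set.nonempty_of_ncard_ne_zero (show (Z i).ncard ≠ 0 by rw [h5]; norm_num)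
      refine h1 i ?_
      have hfix := congrArg Subtype.val (DFunLike.congr_fun
        (MonoidHom.mem_ker.1 (h ▸ Subgroup.mem_top a : a ∈ π.ker)) ⟨v, hv⟩)
      rwa [← (M.five_data ha5 ha1).2 v hfix]
    have hmod := card_modEq_fixed Nat.prime_three (π s) (by rw [← map_pow, hs3, map_one])
    rw [Nat.card_coe_set_eq, h5] at hmod
    have hlt : Nat.card {x : Z i // π s x = x} < 5 := by
      refine lt_of_lt_of_eq ?_ ((Nat.card_coe_set_eq (Z i)).trans (h5 i))
      refine lt_of_le_of_ne (Nat.card_le_card_of_injective _ Subtype.val_injective) fun e => ?_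
      have hb := (Subtype.val_injective (p := fun x : Z i => π s x = x)).bijective_of_nat_card_le e.ge
      refine hs1 (hinj ?_)
      rw [map_one]
      refine Equiv.ext fun x => ?_
      obtain ⟨⟨x', hx'⟩, rfl⟩ := hb.2 x
      exact hx'
    have e : Nat.card {x : Z i // π s x = x} = Nat.card {v : Z i // φ s v = v} :=
      Nat.card_congr (Equiv.subtypeEquivRight fun v => Subtype.ext_iff)
    rw [e] at hmod hlt
    generalize hn : Nat.card {v : Z i // φ s v = v} = n at hmod hlt
    interval_cases n <;> simp_all [Nat.ModEq]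
  haveI := Fintype.ofFinite V
  have hcount : Nat.card (fix (φ s)) = 7 := by
    have e : Nat.card {v : fix (φ s) // (v : V) ≠ 1} = ∑ i, Nat.card {v : Z i // φ s v = v} := by
      rw [← Nat.card_sigma]
      refine Nat.card_congr (Equiv.ofBijective
        (fun v => ⟨(hone v.1 v.2).choose,
          ⟨⟨(v.1 : V), (hone v.1 v.2).choose_spec.1⟩, v.1.2⟩⟩) ⟨?_, ?_⟩)
      · intro v w h
        exact Subtype.ext (Subtype.ext (congrArg
          (fun t : (i : Fin 3) × {v : Z i // φ s v = v} => (t.2.1 : V)) h))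
      · rintro ⟨i, ⟨⟨v, hv⟩, hfv⟩⟩
        have hv1 : v ≠ 1 := fun e => h1 i (e ▸ hv)
        refine ⟨⟨⟨v, hfv⟩, hv1⟩, ?_⟩
        obtain rfl : i = (hone v hv1).choose := (hone v hv1).choose_spec.2 i hv
        rfl
    simp only [key, Finset.sum_const, Finset.card_univ, Fintype.card_fin, smul_eq_mul] at e
    rw [Nat.card_eq_fintype_card, Fintype.card_subtype_compl] at e
    have hu : Fintype.card {v : fix (φ s) // (v : V) = 1} = 1 :=
      Fintype.card_eq_one_iff.2 ⟨⟨1, rfl⟩, fun v => Subtype.ext (Subtype.ext v.2)⟩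
    rw [hu] at e
    rw [Nat.card_eq_fintype_card]
    have : 0 < Fintype.card (fix (φ s)) := Fintype.card_pos
    omega
  obtain ⟨j, hj, hje⟩ := M.exists_pow (fix (φ s))
  rw [hje] at hcount
  interval_cases j <;> simp at hcount

end Mod

end CfsgLib.Sectional.A5Module
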