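import Mathlib
import Cfsg.Agent.Lib.Sectional.A5Module

/-!
# Invariant quadratic forms on a module of sixteen elements for the alternating group of degree five

A nonzero invariant form has five singular nonzero vectors; two different nonzero forms are impossible;
the form is an orthogonal sum of an anisotropic plane and a hyperbolic plane.
-/

set_option autoImplicit false
set_option linter.style.haveILetI false
set_option linter.unusedSectionVars false

namespace CfsgLib.Sectional.A5Forms

open A5Module

universe u

variable {V : Type u} [Group V] [Finite V]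

/-- The polar of a form. -/
def polar (f : V → ZMod 2) (u v : V) : ZMod 2 := f (u * v) + f u + f v

/-- An invariant quadratic form. -/
structure Form (φ : A5 →* MulAut V) (f : V → ZMod 2) : Prop where
  add_left : ∀ u w v, polar f (u * w) v = polar f u v + polar f w v
  inv : ∀ a v, f (φ a v) = f v

theorem two_eq_zero : ∀ x : ZMod 2, x + x = 0 := by decide

theorem cases_two : ∀ x : ZMod 2, x = 0 ∨ x = 1 := by decide

variable {φ : A5 →* MulAut V} (M : Mod φ) {f : V → ZMod 2} (F : Form φ f)
include M F

theorem symm (u v : V) : polar f u v = polar f v u := by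
  rw [polar, polar, M.comm u v, add_assoc, add_comm (f u), ← add_assoc]

theorem add_right (u v w : V) : polar f u (v * w) = polar f u v + polar f u w := by
  rw [symm M F u, F.add_left, symm M F v, symm M F w]

theorem form_one : f 1 = 0 := by
  have h := F.add_left 1 1 1
  simp only [polar, one_mul, mul_one] at h
  revert h
  generalize f 1 = x
  revert x
  decide

theorem polar_one (v : V) : polar f 1 v = 0 := by
  rw [polar, one_mul, form_one M F, add_zero, two_eq_zero]

theorem polar_self (v : V) : polar f v v = 0 := by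
  rw [polar, M.sq, form_one M F, zero_add, two_eq_zero]

theorem map_polar (a : A5) (u v : V) : polar f (φ a u) (φ a v) = polar f u v := by
  rw [polar, polar, ← map_mul, F.inv, F.inv, F.inv]

/-- A nonzero form has a nondegenerate polar. -/
theorem nondeg (hf : ∃ v, f v = 1) {u : V} (hu : ∀ v, polar f u v = 0) : u = 1 := by
  let R : Subgroup V :=
    { carrier := {u | ∀ v, polar f u v = 0}
      one_mem' := polar_one M F
      mul_mem' := fun {a b} ha hb v => by rw [F.add_left, ha, hb, add_zero]
      inv_mem' := fun {a} ha => by rw [inv_eq_of_mul_eq_one_right (M.sq a)]; exact ha }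
  rcases M.irreducible R (fun a w hw v => by
      obtain ⟨v', rfl⟩ := (φ a).surjective v
      rw [map_polar M F]; exact hw v') with h | h
  · exact Subgroup.mem_bot.1 (h ▸ (hu : u ∈ R))
  · exfalso
    have hadd : ∀ a b, f (a * b) = f a + f b := fun a b => by
      have h0 := (h ▸ Subgroup.mem_top a : a ∈ R) b
      rw [polar] at h0
      revert h0
      generalize f (a * b) = x
      generalize f a = y
      generalize f b = z
      revert x y z
      decide
    let K : Subgroup V :=
      { carrier := {u | f u = 0}
        one_mem' := form_one M F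
        mul_mem' := fun {a b} ha hb => by show f (a * b) = 0; rw [hadd, ha, hb, add_zero]
        inv_mem' := fun {a} ha => by rw [inv_eq_of_mul_eq_one_right (M.sq a)]; exact ha }
    obtain ⟨w, hw⟩ := hf
    rcases M.irreducible K (fun a v hv => by show f (φ a v) = 0; rw [F.inv]; exact hv) with hK | hK
    · obtain ⟨w', h1, h2⟩ : ∃ w' : V, w' ≠ 1 ∧ w' ≠ w := by
        by_contra hcon
        push Not at hcon
        classical
        haveI := Fintype.ofFinite V
        have hle := Finset.card_le_card (show (Finset.univ : Finset V) ⊆ {1, w} from fun x _ => by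
          by_cases hx : x = 1
          · simp [hx]
          · simp [hcon x hx])
        rw [Finset.card_univ, ← Nat.card_eq_fintype_card, M.card_eq] at hle
        exact absurd (hle.trans Finset.card_le_two) (by norm_num)
      rcases cases_two (f w') with e | e
      · exact h1 (Subgroup.mem_bot.1 (hK ▸ (e : w' ∈ K)))
      · refine h2 (mul_right_cancel (b := w) ?_)
        rw [M.sq w]
        exact Subgroup.mem_bot.1 (hK ▸ ((by rw [hadd, e, hw]; decide : f (w' * w) = 0) : w' * w ∈ K))
    · have hw0 : f w = 0 := (hK ▸ Subgroup.mem_top w : w ∈ K)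
      rw [hw] at hw0
      exact absurd hw0 (by decide)

/-- A nonzero form has exactly five singular nonzero vectors. -/
theorem card_singular (hf : ∃ v, f v = 1) : {v | f v = 0 ∧ v ≠ 1}.ncard = 5 := by
  classical
  haveI := Fintype.ofFinite V
  let σ : ZMod 2 → ℤ := fun x => if x = 0 then 1 else -1
  have hσ : ∀ x y, σ (x + y) = σ x * σ y := by decide
  have hchar : ∀ v, v ≠ 1 → ∑ u, σ (polar f u v) = 0 := by
    intro v hv
    obtain ⟨w, hw⟩ : ∃ w, polar f w v = 1 := by
      by_contra hcon
      push Not at hcon
      exact hv (nondeg M F hf fun w => by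
        rw [symm M F]; exact (cases_two _).resolve_right (hcon w))
    have e : ∑ u, σ (polar f (w * u) v) = ∑ u, σ (polar f u v) :=
      Equiv.sum_comp (Equiv.mulLeft w) fun u => σ (polar f u v)
    simp only [F.add_left, hσ, hw, ← Finset.mul_sum] at e
    rw [show σ 1 = -1 from rfl] at e
    omega
  have hsq : (∑ u, σ (f u)) * (∑ u, σ (f u)) = 16 := by
    have e1 : ∀ u, ∑ v, σ (f u) * σ (f v) = ∑ v, σ (polar f u v) * σ (f v) := fun u => by
      rw [← Equiv.sum_comp (Equiv.mulLeft u) fun v => σ (f u) * σ (f v)]
      refine Finset.sum_congr rfl fun v _ => ?_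
      rw [← hσ, ← hσ, Equiv.coe_mulLeft, polar]
      congr 1
      generalize f (u * v) = x
      generalize f u = y
      generalize f v = z
      revert x y z
      decide
    rw [Finset.sum_mul_sum, Finset.sum_congr rfl fun u _ => e1 u, Finset.sum_comm]
    simp only [← Finset.sum_mul]
    rw [Finset.sum_eq_single (1 : V)]
    · simp only [symm M F _ 1, polar_one M F, form_one M F]
      rw [show σ 0 = 1 from rfl, Finset.sum_const, Finset.card_univ, ← Nat.card_eq_fintype_card, M.card_eq]
      rfl
    · intro v _ hv; rw [hchar v hv, zero_mul]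
    · intro h; exact absurd (Finset.mem_univ _) h
  set n := (Finset.univ.filter fun v => f v = 0).card with hn
  have hsum : ∑ u, σ (f u) = 2 * (n : ℤ) - 16 := by
    have e : ∀ u, σ (f u) = 2 * (if f u = 0 then (1 : ℤ) else 0) - 1 := fun u => by
      simp only [σ]; split_ifs <;> norm_num
    rw [Finset.sum_congr rfl fun u _ => e u, Finset.sum_sub_distrib, ← Finset.mul_sum, Finset.sum_boole,
      Finset.sum_const, Finset.card_univ, ← Nat.card_eq_fintype_card, M.card_eq, hn]
    norm_num
  rw [hsum] at hsq
  have hn16 : n ≤ 16 := by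
    rw [hn, ← M.card_eq, Nat.card_eq_fintype_card]; exact Finset.card_le_univ _
  have hn6 : n = 6 ∨ n = 10 := by interval_cases n <;> norm_num at hsq <;> simp
  have hset : {v | f v = 0 ∧ v ≠ 1}.ncard + 1 = n := by
    have e : {v | f v = 0 ∧ v ≠ 1} = ((Finset.univ.filter fun v => f v = 0).erase 1 : Set V) := by
      ext v; simp [and_comm]
    rw [e, Set.ncard_coe_finset, Finset.card_erase_add_one (by simp [form_one M F])]
  have h5 := M.five_dvd {v | f v = 0 ∧ v ≠ 1}
    (fun a v hv => ⟨by rw [F.inv]; exact hv.1, fun e => hv.2 ((φ a).injective (by rw [e, map_one]))⟩)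
    (fun h => h.2 rfl)
  rcases hn6 with h | h <;> rw [h] at hset <;> omega

/-- An orthogonal sum of an anisotropic and a hyperbolic plane. -/
theorem exists_basis (hf : ∃ v, f v = 1) : ∃ a b c d : V,
    (f a = 1 ∧ f b = 1 ∧ f (a * b) = 1 ∧ f c = 1 ∧ f d = 0) ∧
    (polar f a b = 1 ∧ polar f c d = 1 ∧ polar f a c = 0 ∧ polar f a d = 0 ∧ polar f b c = 0 ∧
      polar f b d = 0) ∧
    ∀ v : V, v ∈ Subgroup.closure ({a, b, c, d} : Set V) := by
  classical
  haveI := Fintype.ofFinite V
  have h5 := card_singular M F hf
  obtain ⟨d, hd0, hd1⟩ := Set.nonempty_of_ncard_ne_zero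
    (show {v | f v = 0 ∧ v ≠ 1}.ncard ≠ 0 by rw [h5]; norm_num)
  obtain ⟨c', hc'⟩ : ∃ c, polar f c d = 1 := by
    by_contra hcon
    push Not at hcon
    exact hd1 (nondeg M F hf fun w => by rw [symm M F]; exact (cases_two _).resolve_right (hcon w))
  obtain ⟨c, hc, hcd⟩ : ∃ c, f c = 1 ∧ polar f c d = 1 := by
    rcases cases_two (f c') with e | e
    · refine ⟨c' * d, ?_, by rw [F.add_left, hc', polar_self M F, add_zero]⟩
      have h := hc'
      rw [polar, e, hd0, add_zero, add_zero] at h
      exact h
    · exact ⟨c', e, hc'⟩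
  -- the orthogonal of the plane
  let W : Finset V := Finset.univ.filter fun w => polar f c w = 0 ∧ polar f d w = 0
  have hdc : polar f d c = 1 := by rw [symm M F]; exact hcd
  let H : Fin 4 → V := ![1, c, d, c * d]
  have hbij : Function.Bijective (fun q : Fin 4 × W => H q.1 * q.2) := by
    refine ⟨?_, fun v => ?_⟩
    · rintro ⟨i, w, hw⟩ ⟨i', w', hw'⟩ he
      simp only [W, Finset.mem_filter, Finset.mem_univ, true_and] at hw hw'
      dsimp only at he
      have k1 := congrArg (polar f c) he
      have k2 := congrArg (polar f d) he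
      rw [add_right M F, add_right M F, hw.1, hw'.1, add_zero, add_zero] at k1
      rw [add_right M F, add_right M F, hw.2, hw'.2, add_zero, add_zero] at k2
      have hi : i = i' := by
        have hc1 : polar f c 1 = 0 := by rw [symm M F]; exact polar_one M F c
        have hd1' : polar f d 1 = 0 := by rw [symm M F]; exact polar_one M F d
        have g1 : ∀ j, polar f c (H j) = ![0, 0, 1, 1] j := by
          intro j; fin_cases j <;> simp [H, hc1, polar_self M F, hcd, add_right M F]
        have g2 : ∀ j, polar f d (H j) = ![0, 1, 0, 1] j := by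
          intro j; fin_cases j <;> simp [H, hd1', polar_self M F, hdc, add_right M F]
        rw [g1, g1] at k1
        rw [g2, g2] at k2
        revert k1 k2
        clear he
        revert i i'
        decide
      subst hi
      exact Prod.ext rfl (Subtype.ext (mul_left_cancel he))
    · obtain ⟨i, hi1, hi2⟩ : ∃ i, polar f c (H i) = polar f c v ∧ polar f d (H i) = polar f d v := by
        rcases cases_two (polar f c v) with e | e <;> rcases cases_two (polar f d v) with e' | e'
        · exact ⟨0, by simp [H, e, symm M F c, polar_one M F], by simp [H, e', symm M F d, polar_one M F]⟩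
        · exact ⟨1, by simp [H, e, polar_self M F], by simp [H, e', hdc]⟩
        · exact ⟨2, by simp [H, e, hcd], by simp [H, e', polar_self M F]⟩
        · exact ⟨3, by simp [H, e, hcd, polar_self M F, add_right M F],
            by simp [H, e', hdc, polar_self M F, add_right M F]⟩
      refine ⟨⟨i, H i * v, ?_⟩, ?_⟩
      · simp only [W, Finset.mem_filter, Finset.mem_univ, true_and]
        rw [add_right M F, add_right M F, hi1, hi2, two_eq_zero, two_eq_zero]
        exact ⟨rfl, rfl⟩
      · dsimp only
        rw [← mul_assoc, M.sq, one_mul]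
  have hW4 : W.card = 4 := by
    have h := Nat.card_eq_of_bijective _ hbij
    rw [Nat.card_prod, Nat.card_fin, Nat.card_eq_fintype_card, Fintype.card_coe, M.card_eq] at h
    omega
  have hfH : ∀ (i : Fin 4) (w : V), w ∈ W → f (H i * w) = ![0, 1, 0, 0] i + f w := by
    intro i w hw
    simp only [W, Finset.mem_filter, Finset.mem_univ, true_and] at hw
    have hp : polar f (H i) w = 0 := by
      fin_cases i <;> simp [H, polar_one M F, hw.1, hw.2, F.add_left]
    have hH : f (H i) = ![0, 1, 0, 0] i := by
      fin_cases i
      · simpa [H] using form_one M F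
      · simpa [H] using hc
      · simpa [H] using hd0
      · have h := hcd
        rw [polar, hc, hd0] at h
        simp [H]
        revert h
        generalize f (c * d) = x
        revert x
        decide
    rw [polar, hH] at hp
    revert hp
    generalize f (H i * w) = x
    generalize ![(0 : ZMod 2), 1, 0, 0] i = y
    generalize f w = z
    revert x y z
    decide
  -- the orthogonal plane is anisotropic
  have hWanis : ∀ w ∈ W, w ≠ 1 → f w = 1 := by
    by_contra hcon
    push Not at hcon
    obtain ⟨w0, hw0, hw01, hfw0⟩ := hcon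
    have hf0 : f w0 = 0 := (cases_two _).resolve_right hfw0
    have h1W : (1 : V) ∈ W := by
      simp only [W, Finset.mem_filter, Finset.mem_univ, true_and]
      exact ⟨by rw [symm M F]; exact polar_one M F c, by rw [symm M F]; exact polar_one M F d⟩
    obtain ⟨w2, hw2, hw21, hw20⟩ : ∃ w2 ∈ W, w2 ≠ 1 ∧ w2 ≠ w0 := by
      by_contra hc2
      push Not at hc2
      have hle := Finset.card_le_card (show W ⊆ {1, w0} from fun x hx => by
        by_cases hx1 : x = 1
        · simp [hx1]
        · simp [hc2 x hx hx1])
      rw [hW4] at hle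
      exact absurd (hle.trans Finset.card_le_two) (by norm_num)
    have hmul : ∀ {p q : V}, p ∈ W → q ∈ W → p * q ∈ W := by
      intro p q hp hq
      simp only [W, Finset.mem_filter, Finset.mem_univ, true_and] at hp hq ⊢
      exact ⟨by rw [add_right M F, hp.1, hq.1, add_zero], by rw [add_right M F, hp.2, hq.2, add_zero]⟩
    have hw3 := hmul hw0 hw2
    have hw31 : w0 * w2 ≠ 1 := fun e => hw20 (mul_left_cancel (a := w0) (e.trans (M.sq w0).symm))
    have hw30 : w0 * w2 ≠ w0 := fun e => hw21 (mul_eq_left.1 e)
    have hw32 : w0 * w2 ≠ w2 := fun e => hw01 (mul_eq_right.1 e)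
    have hWeq : W = {1, w0, w2, w0 * w2} := by
      refine (Finset.eq_of_subset_of_card_le ?_ ?_).symm
      · intro x hx
        simp only [Finset.mem_insert, Finset.mem_singleton] at hx
        rcases hx with rfl | rfl | rfl | rfl <;> assumption
      · rw [hW4, Finset.card_insert_of_notMem (by simp [hw01.symm, hw21.symm, hw31.symm]),
          Finset.card_insert_of_notMem (by simp [hw20.symm, hw30.symm]), Finset.card_pair hw32.symm]
    -- count the singular vectors
    have hn : (Finset.univ.filter fun v => f v = 0).card =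
        ((Finset.univ : Finset (Fin 4 × W)).filter fun q => f (H q.1 * q.2) = 0).card := by
      refine (Finset.card_bij (fun q _ => H q.1 * q.2) (fun q hq => by simpa using hq) (fun q _ q' _ e =>
        hbij.1 e) fun v hv => ?_).symm
      obtain ⟨q, rfl⟩ := hbij.2 v
      exact ⟨q, by simpa using hv, rfl⟩
    have hn6 : (Finset.univ.filter fun v => f v = 0).card = 6 := by
      have e : {v | f v = 0 ∧ v ≠ 1} = ((Finset.univ.filter fun v => f v = 0).erase 1 : Set V) := by
        ext v; simp [and_comm]
      rw [e, Set.ncard_coe_finset] at h5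
      rw [← Finset.card_erase_add_one (a := (1 : V)) (by simp [form_one M F]), h5]
    let S : Finset (Fin 4 × W) :=
      {(0, ⟨1, h1W⟩), (2, ⟨1, h1W⟩), (3, ⟨1, h1W⟩), (0, ⟨w0, hw0⟩), (2, ⟨w0, hw0⟩), (3, ⟨w0, hw0⟩)}
    have hS6 : S.card = 6 := by
      simp [S, Finset.card_insert_of_notMem, Prod.ext_iff, Subtype.ext_iff, hw01, hw01.symm]
    have hsub : S ⊆ (Finset.univ : Finset (Fin 4 × W)).filter fun q => f (H q.1 * q.2) = 0 := by
      intro q hq
      simp only [S, Finset.mem_insert, Finset.mem_singleton] at hq
      refine Finset.mem_filter.2 ⟨Finset.mem_univ _, ?_⟩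
      rw [hfH _ _ q.2.2]
      rcases hq with rfl | rfl | rfl | rfl | rfl | rfl <;> simp [form_one M F, hf0]
    have hextra : ∃ q ∈ (Finset.univ : Finset (Fin 4 × W)).filter (fun q => f (H q.1 * q.2) = 0), q ∉ S := by
      rcases cases_two (f w2) with e | e
      · refine ⟨(0, ⟨w2, hw2⟩), Finset.mem_filter.2 ⟨Finset.mem_univ _, ?_⟩, ?_⟩
        · rw [hfH _ _ hw2, e]; rfl
        · simp [S, Prod.ext_iff, Subtype.ext_iff, hw21, hw20]
      · refine ⟨(1, ⟨w2, hw2⟩), Finset.mem_filter.2 ⟨Finset.mem_univ _, ?_⟩, ?_⟩
        · rw [hfH _ _ hw2, e]; show (1 : ZMod 2) + 1 = 0; decide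
        · simp [S, Prod.ext_iff]
    obtain ⟨q, hq, hqS⟩ := hextra
    have := Finset.card_lt_card ((Finset.ssubset_iff_of_subset hsub).2 ⟨q, hq, hqS⟩)
    omega
  have h1W : (1 : V) ∈ W := by
    simp only [W, Finset.mem_filter, Finset.mem_univ, true_and]
    exact ⟨by rw [symm M F]; exact polar_one M F c, by rw [symm M F]; exact polar_one M F d⟩
  obtain ⟨a, ha, ha1⟩ := Finset.exists_mem_ne (show 1 < W.card by omega) 1
  obtain ⟨b, hb, hb1, hba⟩ : ∃ b ∈ W, b ≠ 1 ∧ b ≠ a := by
    by_contra hc2
    push Not at hc2
    have hle := Finset.card_le_card (show W ⊆ {1, a} from fun x hx => by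
      by_cases hx1 : x = 1
      · simp [hx1]
      · simp [hc2 x hx hx1])
    rw [hW4] at hle
    exact absurd (hle.trans Finset.card_le_two) (by norm_num)
  have ha' := ha
  have hb' := hb
  simp only [W, Finset.mem_filter, Finset.mem_univ, true_and] at ha' hb'
  have habW : a * b ∈ W := by
    simp only [W, Finset.mem_filter, Finset.mem_univ, true_and]
    exact ⟨by rw [add_right M F, ha'.1, hb'.1, add_zero], by rw [add_right M F, ha'.2, hb'.2, add_zero]⟩
  have hab1 : a * b ≠ 1 := fun e => hba (mul_left_cancel (a := a) (e.trans (M.sq a).symm))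
  have fa := hWanis a ha ha1
  have fb := hWanis b hb hb1
  have fab := hWanis _ habW hab1
  refine ⟨a, b, c, d, ⟨fa, fb, fab, hc, hd0⟩,
    ⟨by rw [polar, fa, fb, fab]; decide, hcd, by rw [symm M F]; exact ha'.1,
      by rw [symm M F]; exact ha'.2, by rw [symm M F]; exact hb'.1, by rw [symm M F]; exact hb'.2⟩,
    fun v => ?_⟩
  obtain ⟨⟨i, w, hw⟩, rfl⟩ := hbij.2 v
  have hWeq : W = {1, a, b, a * b} := by
    refine (Finset.eq_of_subset_of_card_le ?_ ?_).symm
    · intro x hx
      simp only [Finset.mem_insert, Finset.mem_singleton] at hx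
      rcases hx with rfl | rfl | rfl | rfl <;> assumption
    · have e1 : a * b ≠ a := fun e => hb1 (mul_eq_left.1 e)
      have e2 : a * b ≠ b := fun e => ha1 (mul_eq_right.1 e)
      rw [hW4, Finset.card_insert_of_notMem (by simp [ha1.symm, hb1.symm, hab1.symm]),
        Finset.card_insert_of_notMem (by simp [hba.symm, e1.symm]), Finset.card_pair e2.symm]
  refine mul_mem ?_ ?_
  · fin_cases i
    · exact one_mem _
    · exact Subgroup.subset_closure (show c ∈ ({a, b, c, d} : Set V) by simp)
    · exact Subgroup.subset_closure (show d ∈ ({a, b, c, d} : Set V) by simp)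
    · exact mul_mem (Subgroup.subset_closure (show c ∈ ({a, b, c, d} : Set V) by simp))
        (Subgroup.subset_closure (show d ∈ ({a, b, c, d} : Set V) by simp))
  · rw [hWeq] at hw
    simp only [Finset.mem_insert, Finset.mem_singleton] at hw
    rcases hw with rfl | rfl | rfl | rfl
    · exact one_mem _
    · exact Subgroup.subset_closure (by simp)
    · exact Subgroup.subset_closure (by simp)
    · exact mul_mem (Subgroup.subset_closure (by simp)) (Subgroup.subset_closure (by simp))

omit F in
/-- Three nonzero invariant forms cannot sum to zero. -/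
theorem no_pencil {f g k : V → ZMod 2} (Ff : Form φ f) (Fg : Form φ g) (Fk : Form φ k)
    (hsum : ∀ v, f v + g v + k v = 0) (hf : ∃ v, f v = 1) (hg : ∃ v, g v = 1) (hk : ∃ v, k v = 1) :
    False := by
  classical
  haveI := Fintype.ofFinite V
  let F : Fin 3 → V → ZMod 2 := ![f, g, k]
  let Z : Fin 3 → Set V := fun i => {v | F i v = 0 ∧ v ≠ 1}
  have hF : ∀ i, Form φ (F i) := by intro i; fin_cases i <;> assumption
  have hF1 : ∀ i, ∃ v, F i v = 1 := by intro i; fin_cases i <;> assumption
  have h5 : ∀ i, (Z i).ncard = 5 := fun i => card_singular M (hF i) (hF1 i)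
  have hex : ∀ v, v ≠ 1 → ∃ i, v ∈ Z i := by
    intro v hv
    have h := hsum v
    rcases cases_two (f v) with e | e
    · exact ⟨0, e, hv⟩
    rcases cases_two (g v) with e' | e'
    · exact ⟨1, e', hv⟩
    rw [e, e'] at h
    refine ⟨2, ?_, hv⟩
    show k v = 0
    revert h
    generalize k v = x
    revert x
    decide
  -- fifteen elements covered by three sets of five: they are disjoint
  have hex' : ∀ v : {v : V // v ≠ 1}, ∃ i, v.1 ∈ Z i := fun v => hex v.1 v.2
  choose idx hidx using hex'
  let ψ : {v : V // v ≠ 1} → Σ i, Z i := fun v => ⟨idx v, v.1, hidx v⟩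
  have hinj : Function.Injective ψ := fun v w e =>
    Subtype.ext (congrArg (fun t : Σ i, Z i => (t.2 : V)) e)
  have hsurj : Function.Surjective ψ := by
    refine (hinj.bijective_of_nat_card_le ?_).2
    rw [Nat.card_sigma, Finset.sum_congr rfl fun i _ => (Nat.card_coe_set_eq (Z i)).trans (h5 i),
      Finset.sum_const, Finset.card_univ, Fintype.card_fin, Nat.card_eq_fintype_card,
      Fintype.card_subtype_compl, Fintype.card_subtype_eq, ← Nat.card_eq_fintype_card, M.card_eq]
    rfl
  refine M.no_three Z (fun i a v hv => ⟨by rw [(hF i).inv]; exact hv.1,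
    fun e => hv.2 ((φ a).injective (by rw [e, map_one]))⟩) (fun v hv => ?_) (fun i h => h.2 rfl) h5
  refine ⟨idx ⟨v, hv⟩, hidx ⟨v, hv⟩, fun i hi => ?_⟩
  obtain ⟨w, hw⟩ := hsurj ⟨i, v, hi⟩
  have e1 : w.1 = v := congrArg (fun t : Σ i, Z i => (t.2 : V)) hw
  have e2 : idx w = i := congrArg Sigma.fst hw
  rw [← e2]
  congr 1
  exact Subtype.ext e1

end CfsgLib.Sectional.A5Forms
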