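import Mathlib
import Cfsg.Prelude.Def_CaseTheorems

/-!
# An elementary abelian section of order thirty-two from two layers

An involutory automorphism whose fixed points are exactly its commutators, of order four, on two
successive layers of order sixteen produces such a section, whatever the extensions are.
-/

set_option autoImplicit false
set_option linter.style.haveILetI false

namespace CfsgLib.Sectional.TwoLayers

universe u

variable {Y : Type u} [Group Y]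

/-- Two layers of order sixteen forbid sectional rank four. -/
theorem not_sectional [Finite Y] (Q M : Subgroup Y) [Q.Normal] (hMQ : M ≤ Q)
    (hM2 : ∀ m ∈ M, m * m = 1) (hMc : ∀ m ∈ M, ∀ q ∈ Q, m * q = q * m)
    (hQsq : ∀ q ∈ Q, q * q ∈ M) (hQc : ∀ p ∈ Q, ∀ q ∈ Q, p * q * p⁻¹ * q⁻¹ ∈ M)
    (hM16 : Nat.card M = 16)
    (y : Y) (hy2 : y * y ∈ Q) (hyQ : y ∉ Q) (hyM : ∀ m ∈ M, y * m * y⁻¹ ∈ M)
    (hK : Nat.card {m : Y // m ∈ M ∧ y * m * y⁻¹ = m} = 4)
    (hC : Nat.card {x : Y // x ∈ Q ∧ y * x * y⁻¹ * x⁻¹ ∈ M} = 64)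
    (himg : ∀ x ∈ Q, y * x * y⁻¹ * x⁻¹ ∈ M → ∃ u ∈ Q, (y * u * y⁻¹ * u)⁻¹ * x ∈ M) :
    ¬ Cfsg.SectionalPRankLE 2 4 Y := by
  intro hr
  classical
  have hMnorm : ∀ p ∈ Q, ∀ m ∈ M, p * m * p⁻¹ = m := fun p hp m hm => by
    rw [← hMc m hm p hp, mul_inv_cancel_right]
  have hQn : ∀ g, ∀ q ∈ Q, g * q * g⁻¹ ∈ Q := fun g q hq =>
    (inferInstance : Q.Normal).conj_mem q hq g
  let Cq : Subgroup Y :=
    { carrier := {x | x ∈ Q ∧ y * x * y⁻¹ * x⁻¹ ∈ M}
      one_mem' := ⟨one_mem _, by simp⟩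
      mul_mem' := by
        rintro p q ⟨hp, hp'⟩ ⟨hq, hq'⟩
        refine ⟨mul_mem hp hq, ?_⟩
        have e : y * (p * q) * y⁻¹ * (p * q)⁻¹ =
            (y * p * y⁻¹ * p⁻¹) * (p * (y * q * y⁻¹ * q⁻¹) * p⁻¹) := by group
        rw [e, hMnorm p hp _ hq']
        exact mul_mem hp' hq'
      inv_mem' := by
        rintro p ⟨hp, hp'⟩
        refine ⟨inv_mem hp, ?_⟩
        have e : y * p⁻¹ * y⁻¹ * p⁻¹⁻¹ = p⁻¹ * (y * p * y⁻¹ * p⁻¹)⁻¹ * p⁻¹⁻¹ := by group
        rw [e, hMnorm _ (inv_mem hp) _ (inv_mem hp')]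
        exact inv_mem hp' }
  have hMC : ∀ m ∈ M, m ∈ Cq := fun m hm => ⟨hMQ hm, mul_mem (hyM m hm) (inv_mem hm)⟩
  -- a lift squaring into `M`
  have hy2C : y * y ∈ Cq := ⟨hy2, by
    rw [show y * (y * y) * y⁻¹ * (y * y)⁻¹ = 1 by group]; exact one_mem M⟩
  obtain ⟨u, hu, hum⟩ := himg _ hy2C.1 hy2C.2
  set y' := u * y with hy'
  have hy'2 : y' * y' ∈ M := by
    have e : y' * y' = u * (y * u * y⁻¹) * ((y * u * y⁻¹) * u) * ((y * u * y⁻¹ * u)⁻¹ * (y * y)) := by
      rw [hy']; group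
    rw [e]
    refine mul_mem ?_ hum
    have hv := hQn y u hu
    have e2 : u * (y * u * y⁻¹) * (y * u * y⁻¹ * u) =
        u * ((y * u * y⁻¹) * (y * u * y⁻¹)) * u⁻¹ * (u * u) := by group
    rw [e2]
    refine mul_mem ?_ (hQsq u hu)
    rw [hMnorm u hu _ (hQsq _ hv)]
    exact hQsq _ hv
  have hy'M : ∀ m ∈ M, y' * m * y'⁻¹ = y * m * y⁻¹ := fun m hm => by
    rw [hy']
    calc u * y * m * (u * y)⁻¹ = u * (y * m * y⁻¹) * u⁻¹ := by group
      _ = _ := hMnorm u hu _ (hyM m hm)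
  have hy'C : ∀ g ∈ Cq, y' * g * y'⁻¹ * g⁻¹ ∈ M := by
    rintro g ⟨hg, hg'⟩
    have e : y' * g * y'⁻¹ * g⁻¹ = u * (y * g * y⁻¹ * g⁻¹) * u⁻¹ * (u * g * u⁻¹ * g⁻¹) := by
      rw [hy']; group
    rw [e, hMnorm u hu _ hg']
    exact mul_mem hg' (hQc u hu g hg)
  have hconjC : ∀ g ∈ Cq, y' * g * y'⁻¹ ∈ Cq := fun g hg => by
    rw [show y' * g * y'⁻¹ = (y' * g * y'⁻¹ * g⁻¹) * g from (inv_mul_cancel_right _ g).symm]
    exact mul_mem (hMC _ (hy'C g hg)) hg
  have hconjC' : ∀ g ∈ Cq, y'⁻¹ * g * y' ∈ Cq := fun g hg => by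
    have h := hconjC g hg
    have e : y'⁻¹ * g * y' = (y' * y')⁻¹ * (y' * g * y'⁻¹) * (y' * y') := by group
    rw [e]
    exact mul_mem (mul_mem (inv_mem (hMC _ hy'2)) h) (hMC _ hy'2)
  let H : Subgroup Y :=
    { carrier := {g | g ∈ Cq ∨ g * y' ∈ Cq}
      one_mem' := Or.inl (one_mem _)
      mul_mem' := by
        rintro p q (hp | hp) (hq | hq)
        · exact Or.inl (mul_mem hp hq)
        · exact Or.inr (by rw [mul_assoc]; exact mul_mem hp hq)
        · refine Or.inr ?_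
          have e : p * q * y' = p * y' * (y'⁻¹ * q * y') := by group
          rw [e]; exact mul_mem hp (hconjC' q hq)
        · refine Or.inl ?_
          have e : p * q = p * y' * (y'⁻¹ * (q * y') * y') * (y' * y')⁻¹ := by group
          rw [e]
          exact mul_mem (mul_mem hp (hconjC' _ hq)) (inv_mem (hMC _ hy'2))
      inv_mem' := by
        rintro p (hp | hp)
        · exact Or.inl (inv_mem hp)
        · refine Or.inr ?_
          have e : p⁻¹ * y' = y' * (p * y')⁻¹ * y'⁻¹ * (y' * y') := by group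
          rw [e]
          exact mul_mem (hconjC _ (inv_mem hp)) (hMC _ hy'2) }
  let K : Subgroup H :=
    { carrier := {g | (g : Y) ∈ M ∧ y * g * y⁻¹ = g}
      one_mem' := ⟨one_mem _, by simp⟩
      mul_mem' := by
        rintro p q ⟨hp, hp'⟩ ⟨hq, hq'⟩
        refine ⟨mul_mem hp hq, ?_⟩
        rw [Subgroup.coe_mul, ← conj_mul, hp', hq']
      inv_mem' := by
        rintro p ⟨hp, hp'⟩
        refine ⟨inv_mem hp, ?_⟩
        rw [Subgroup.coe_inv, ← conj_inv, hp'] }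
  have hKcomm : ∀ m ∈ M, y * m * y⁻¹ = m → ∀ g ∈ H, g * m * g⁻¹ = m := by
    rintro m hm hfix g (hg | hg)
    · exact hMnorm g hg.1 m hm
    · have e : g * m * g⁻¹ = g * y' * (y'⁻¹ * m * y') * (g * y')⁻¹ := by group
      have e2 : y' * m * y'⁻¹ = m := (hy'M m hm).trans hfix
      have e3 : y'⁻¹ * m * y' = m := by
        conv_lhs => rw [← e2]
        group
      rw [e, e3, hMnorm _ hg.1 m hm]
  haveI : K.Normal := ⟨fun n hn g => by
    have e := hKcomm _ hn.1 hn.2 g g.2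
    have : g * n * g⁻¹ = n := Subtype.ext e
    rw [this]; exact hn⟩
  have hsq : ∀ g : H, g * g ∈ K := by
    rintro ⟨g, hg⟩
    have hsqC : ∀ p ∈ Cq, p * p ∈ M ∧ y * (p * p) * y⁻¹ = p * p := fun p hp => by
      refine ⟨hQsq p hp.1, ?_⟩
      have hc := hMc _ hp.2 p hp.1
      have e : y * (p * p) * y⁻¹ =
          (y * p * y⁻¹ * p⁻¹) * (p * (y * p * y⁻¹ * p⁻¹)) * p := by group
      rw [e, ← hc, ← mul_assoc, hM2 _ hp.2, one_mul]
    rcases hg with hg | hg
    · exact hsqC g hg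
    · -- write `g = p * y'⁻¹`
      set p := g * y' with hp
      set d := y' * p * y'⁻¹ * p⁻¹ with hd
      have hdM : d ∈ M := hy'C p hg
      have hyd : y * d * y⁻¹ = d := by
        rw [← hy'M d hdM]
        have e : y' * d * y'⁻¹ * d = (y' * y') * p * (y' * y')⁻¹ * p⁻¹ := by rw [hd]; group
        rw [hMc _ hy'2 p hg.1, mul_inv_cancel_right, mul_inv_cancel] at e
        exact (mul_eq_one_iff_eq_inv.1 e).trans (inv_eq_of_mul_eq_one_right (hM2 d hdM))
      have hyy : y * (y' * y') * y⁻¹ = y' * y' := by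
        rw [← hy'M _ hy'2]; group
      obtain ⟨hp2, hp2'⟩ := hsqC p hg
      have hgg : g * g = p * p * d * (y' * y')⁻¹ := by
        have e0 : g * g = p * (y'⁻¹ * p * y') * (y' * y')⁻¹ := by rw [hp]; group
        have e1 : y'⁻¹ * p * y' = (y' * y')⁻¹ * (y' * p * y'⁻¹) * (y' * y') := by group
        have e2 : (y' * y')⁻¹ * (y' * p * y'⁻¹) * (y' * y') = y' * p * y'⁻¹ := by
          rw [mul_assoc, ← hMc _ hy'2 _ (hQn y' p hg.1), inv_mul_cancel_left]
        rw [e0, e1, e2, show y' * p * y'⁻¹ = d * p from (inv_mul_cancel_right _ p).symm,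
          hMc d hdM p hg.1]
        simp only [mul_assoc]
      refine ⟨?_, ?_⟩
      · show g * g ∈ M
        rw [hgg]; exact mul_mem (mul_mem hp2 hdM) (inv_mem hy'2)
      · show y * (g * g) * y⁻¹ = g * g
        rw [hgg, ← conj_mul, ← conj_mul, ← conj_inv, hp2', hyd, hyy]
  have hexp : ∀ q : H ⧸ K, q * q = 1 := by
    intro q
    induction q using QuotientGroup.induction_on with
    | H g => rw [← QuotientGroup.mk_mul, QuotientGroup.eq_one_iff]; exact hsq g
  have hcomm : ∀ p q : H ⧸ K, p * q = q * p := by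
    have hi : ∀ q : H ⧸ K, q⁻¹ = q := fun q => inv_eq_of_mul_eq_one_right (hexp q)
    intro p q
    rw [← hi (p * q), mul_inv_rev, hi, hi]
  have hcard := hr H K ⊤ ⟨⟨fun p q => Subtype.ext (hcomm p q)⟩⟩
    (fun q _ => by rw [pow_two]; exact hexp q)
  rw [Subgroup.card_top] at hcard
  have hy'Q : y' ∉ Q := fun h => hyQ (by
    rw [show y = u⁻¹ * y' by rw [hy']; group]
    exact mul_mem (inv_mem hu) h)
  have hH : 128 ≤ Nat.card H := by
    have h1 : Nat.card (Bool × {x : Y // x ∈ Q ∧ y * x * y⁻¹ * x⁻¹ ∈ M}) = 128 := by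
      rw [Nat.card_prod, hC, Nat.card_eq_fintype_card, Fintype.card_bool]
    rw [← h1]
    refine Nat.card_le_card_of_injective (fun t => if t.1 then ⟨t.2.1, Or.inl t.2.2⟩
      else ⟨t.2.1 * y'⁻¹, Or.inr (by rw [inv_mul_cancel_right]; exact t.2.2)⟩) ?_
    rintro ⟨i, x, hx⟩ ⟨i', x', hx'⟩ h
    cases i <;> cases i' <;> simp only [if_true, if_false, Bool.false_eq_true] at h <;>
      have h' := congrArg Subtype.val h <;> dsimp only at h'
    · exact Prod.ext rfl (Subtype.ext (mul_right_cancel h'))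
    · exfalso
      refine hy'Q ?_
      rw [← h'] at hx'
      rw [show y' = (x * y'⁻¹)⁻¹ * x by group]
      exact mul_mem (inv_mem hx'.1) hx.1
    · exfalso
      refine hy'Q ?_
      rw [h'] at hx
      rw [show y' = (x' * y'⁻¹)⁻¹ * x' by group]
      exact mul_mem (inv_mem hx.1) hx'.1
    · exact Prod.ext rfl (Subtype.ext h')
  have hK4 : Nat.card K ≤ 4 := by
    rw [← hK]
    exact Nat.card_le_card_of_injective (fun g : K => (⟨((g : H) : Y), g.2⟩ :
      {m : Y // m ∈ M ∧ y * m * y⁻¹ = m}))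
      fun p q e => Subtype.ext (Subtype.ext (congrArg Subtype.val e :))
  have hmul := Subgroup.card_eq_card_quotient_mul_card_subgroup K
  have := Nat.mul_le_mul hcard hK4
  omega

end CfsgLib.Sectional.TwoLayers
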