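import Mathlib
import Cfsg.Prelude.Def_CaseTheorems
import Cfsg.Agent.Lib.TwoGroups.MacWilliams.Key
import Cfsg.Agent.Lib.Sectional.A5Forms
import Cfsg.Agent.Lib.Sectional.TwoLayers

/-!
# One Frattini layer above an elementary abelian section, under the alternating group of degree five
-/

set_option autoImplicit false
set_option linter.style.haveILetI false
set_option linter.unusedSectionVars false

namespace CfsgLib.Sectional.Layer

open A5Module A5Forms
open scoped commutatorElement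

universe u

variable {Y : Type u} [Group Y]

/-- `Y / O` is alternating of degree five and `O / P` is elementary abelian and not centralized. -/
structure Lay (O P : Subgroup Y) (π : Y →* A5) : Prop where
  normalO : O.Normal
  normalP : P.Normal
  le : P ≤ O
  two : IsPGroup 2 O
  surj : Function.Surjective π
  ker : π.ker = O
  sq_mem : ∀ q ∈ O, q * q ∈ P
  moves : ∀ g, g ∉ O → ∃ q ∈ O, g * q * g⁻¹ * q⁻¹ ∉ P

/-- An action of the quotient on an elementary abelian section. -/
theorem exists_action [Finite Y] {O : Subgroup Y} {π : Y →* A5} (hs : Function.Surjective π)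
    (hk : π.ker = O) (M N : Subgroup Y) [M.Normal] [N.Normal]
    (hO : ∀ g ∈ O, ∀ m ∈ M, g * m * g⁻¹ * m⁻¹ ∈ N) :
    ∃ φ : A5 →* MulAut (M ⧸ N.subgroupOf M), ∀ (g : Y) (m : M),
      φ (π g) (m : M ⧸ N.subgroupOf M) =
        ((⟨g * m * g⁻¹, Subgroup.Normal.conj_mem inferInstance _ m.2 g⟩ : M) :
          M ⧸ N.subgroupOf M) := by
  classical
  have hmap : ∀ g : Y, (N.subgroupOf M).map ((MulAut.conjNormal g : MulAut M) : M ≃* M).toMonoidHom
      = N.subgroupOf M := fun g => by
    ext m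
    rw [Subgroup.mem_map_equiv, Subgroup.mem_subgroupOf, Subgroup.mem_subgroupOf]
    have e : (((MulAut.conjNormal g : MulAut M).symm m : M) : Y) = g⁻¹ * m * g⁻¹⁻¹ := by
      rw [inv_inv]; exact MulAut.conjNormal_symm_apply g m
    constructor
    · intro h
      have := Subgroup.Normal.conj_mem (inferInstance : N.Normal) _ h g
      rw [e] at this
      simpa [mul_assoc] using this
    · intro h
      rw [e]
      exact Subgroup.Normal.conj_mem (inferInstance : N.Normal) _ h g⁻¹
  let ψ : Y →* MulAut (M ⧸ N.subgroupOf M) :=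
    { toFun := fun g => QuotientGroup.congr _ _ (MulAut.conjNormal g : MulAut M) (hmap g)
      map_one' := MulEquiv.ext fun v => by
        induction v using QuotientGroup.induction_on with
        | _ v => exact congrArg QuotientGroup.mk (by rw [map_one]; rfl)
      map_mul' := fun a b => MulEquiv.ext fun v => by
        induction v using QuotientGroup.induction_on with
        | _ v => exact congrArg QuotientGroup.mk (by rw [map_mul]; rfl) }
  have hker : π.ker ≤ ψ.ker := by
    rw [hk]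
    intro g hg
    rw [MonoidHom.mem_ker]
    refine MulEquiv.ext fun v => ?_
    induction v using QuotientGroup.induction_on with
    | _ m =>
      show QuotientGroup.mk ((MulAut.conjNormal g : MulAut M) m) = QuotientGroup.mk m
      rw [QuotientGroup.eq, Subgroup.mem_subgroupOf, Subgroup.coe_mul, Subgroup.coe_inv,
        MulAut.conjNormal_apply]
      have h := Subgroup.Normal.conj_mem (inferInstance : N.Normal) _ (inv_mem (hO g hg m m.2)) (m : Y)⁻¹
      have e : (g * (m : Y) * g⁻¹)⁻¹ * (m : Y) =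
          (m : Y)⁻¹ * (g * (m : Y) * g⁻¹ * (m : Y)⁻¹)⁻¹ * (m : Y)⁻¹⁻¹ := by group
      rw [e]; exact h
  refine ⟨π.liftOfSurjective hs ⟨ψ, hker⟩, fun g m => ?_⟩
  rw [MonoidHom.liftOfRightInverse_comp_apply]
  rfl

namespace Lay

variable [Finite Y] {O P : Subgroup Y} {π : Y →* A5} (L : Lay O P π)
include L

theorem mk_eq_one {p : O} :
    haveI := L.normalP
    ((p : O) : O ⧸ P.subgroupOf O) = 1 ↔ (p : Y) ∈ P := by
  haveI := L.normalP
  rw [QuotientGroup.eq_one_iff, Subgroup.mem_subgroupOf]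

theorem comm_mem {p q : Y} (hp : p ∈ O) (hq : q ∈ O) : p * q * p⁻¹ * q⁻¹ ∈ P := by
  haveI := L.normalP
  have h : ∀ x : O ⧸ P.subgroupOf O, x⁻¹ = x := fun x => by
    induction x using QuotientGroup.induction_on with
    | _ x =>
      refine inv_eq_of_mul_eq_one_right ?_
      rw [← QuotientGroup.mk_mul, mk_eq_one L]
      exact L.sq_mem _ x.2
  have hc : ∀ x w : O ⧸ P.subgroupOf O, x * w * x⁻¹ * w⁻¹ = 1 := fun x w => by
    rw [h x, h w, mul_assoc (x * w) x w]
    nth_rw 2 [← h (x * w)]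
    rw [mul_inv_cancel]
  refine (mk_eq_one L (p := ⟨p, hp⟩ * ⟨q, hq⟩ * ⟨p, hp⟩⁻¹ * ⟨q, hq⟩⁻¹)).1 ?_
  simp only [QuotientGroup.mk_mul, QuotientGroup.mk_inv]
  exact hc _ _

/-- The module `O / P`. -/
theorem top_module (hrk : Cfsg.SectionalPRankLE 2 4 Y) :
    haveI := L.normalP
    ∃ φ : A5 →* MulAut (O ⧸ P.subgroupOf O), Mod φ ∧ ∀ (g : Y) (m : O),
      φ (π g) (m : O ⧸ P.subgroupOf O) =
        ((⟨g * m * g⁻¹, L.normalO.conj_mem _ m.2 g⟩ : O) : O ⧸ P.subgroupOf O) := by
  haveI := L.normalP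
  haveI := L.normalO
  obtain ⟨φ, hφ⟩ := exists_action L.surj L.ker O P (fun g hg m hm => L.comm_mem hg hm)
  refine ⟨φ, ⟨fun v => ?_, ?_, fun h => ?_⟩, fun g m => hφ g m⟩
  · induction v using QuotientGroup.induction_on with
    | _ v => rw [← QuotientGroup.mk_mul, mk_eq_one L]; exact L.sq_mem _ v.2
  · have hexp : ∀ q : O ⧸ P.subgroupOf O, q ^ 2 = 1 := by
      intro q
      induction q using QuotientGroup.induction_on with
      | _ v => rw [pow_two, ← QuotientGroup.mk_mul, mk_eq_one L]; exact L.sq_mem _ v.2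
    have hcomm : ∀ p q : O ⧸ P.subgroupOf O, p * q = q * p := by
      have hi : ∀ q : O ⧸ P.subgroupOf O, q⁻¹ = q := fun q =>
        inv_eq_of_mul_eq_one_right (by rw [← pow_two]; exact hexp q)
      intro p q
      rw [← hi (p * q), mul_inv_rev, hi, hi]
    have hc := hrk O (P.subgroupOf O) ⊤ ⟨⟨fun p q => Subtype.ext (hcomm p q)⟩⟩ (fun q _ => hexp q)
    rw [Subgroup.card_top] at hc
    exact hc
  · obtain ⟨s, hs5, hs1⟩ := exists_five
    obtain ⟨g, hg⟩ := L.surj s
    obtain ⟨q, hq, hqn⟩ := L.moves g (fun hgO => hs1 (by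
      rw [← hg]; exact (MonoidHom.mem_ker (f := π)).1 (L.ker ▸ hgO)))
    refine hqn ?_
    have e := hφ g ⟨q, hq⟩
    rw [h, MonoidHom.one_apply, MulAut.one_apply] at e
    have := QuotientGroup.eq.1 e
    rw [Subgroup.mem_subgroupOf, Subgroup.coe_mul, Subgroup.coe_inv] at this
    have h2 := L.normalP.conj_mem _ this q
    simpa [mul_assoc] using h2

theorem card_eq (hrk : Cfsg.SectionalPRankLE 2 4 Y) : Nat.card O = 16 * Nat.card P := by
  haveI := L.normalP
  obtain ⟨φ, M, -⟩ := L.top_module hrk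
  rw [Subgroup.card_eq_card_quotient_mul_card_subgroup (P.subgroupOf O), M.card_eq,
    Nat.card_congr (Subgroup.subgroupOfEquivOfLe L.le).toEquiv]

variable (hPsq : ∀ p ∈ P, p * p = 1) (hPc : ∀ p ∈ P, ∀ q ∈ O, p * q = q * p)
include hPsq hPc

theorem card_le_sixteen (hrk : Cfsg.SectionalPRankLE 2 4 Y) : Nat.card P ≤ 16 := by
  have hc := hrk P ⊥ ⊤ ⟨⟨fun p q => Subtype.ext ?_⟩⟩ (fun q _ => ?_)
  · rw [Subgroup.card_top, Nat.card_congr (QuotientGroup.quotientBot (G := P)).toEquiv] at hc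
    exact hc
  · refine (QuotientGroup.quotientBot (G := P)).injective ?_
    rw [Subgroup.coe_mul, Subgroup.coe_mul, map_mul, map_mul]
    exact Subtype.ext (hPc _ (Subtype.prop _) _ (L.le (Subtype.prop _)))
  · refine (QuotientGroup.quotientBot (G := P)).injective ?_
    rw [map_pow, map_one, pow_two]
    exact Subtype.ext (hPsq _ (Subtype.prop _))

/-- The bottom layer is centralized by the whole group. -/
theorem bottom_central (hrk : Cfsg.SectionalPRankLE 2 4 Y) : ∀ p ∈ P, ∀ g : Y, g * p * g⁻¹ = p := by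
  haveI := L.normalP
  haveI := L.normalO
  have hPbot : ∀ g ∈ O, ∀ m ∈ P, g * m * g⁻¹ * m⁻¹ ∈ (⊥ : Subgroup Y) := fun g hg m hm => by
    rw [Subgroup.mem_bot, ← hPc m hm g hg, mul_inv_cancel_right, mul_inv_cancel]
  obtain ⟨φ', hφ'⟩ := exists_action L.surj L.ker P ⊥ hPbot
  by_cases hne : φ' = 1
  · intro p hp g
    have e := hφ' g ⟨p, hp⟩
    rw [hne, MonoidHom.one_apply, MulAut.one_apply] at e
    have := QuotientGroup.eq.1 e
    rw [Subgroup.mem_subgroupOf, Subgroup.mem_bot, Subgroup.coe_mul, Subgroup.coe_inv,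
      inv_mul_eq_one] at this
    exact this.symm
  exfalso
  have hP16' := L.card_le_sixteen hPsq hPc hrk
  have hPb : (⊥ : Subgroup Y).subgroupOf P = ⊥ := Subgroup.bot_subgroupOf P
  have hmk : ∀ m m' : P, (m : P ⧸ (⊥ : Subgroup Y).subgroupOf P) = m' ↔ m = m' := fun m m' => by
    rw [QuotientGroup.eq, hPb, Subgroup.mem_bot, inv_mul_eq_one]
  have M' : Mod φ' := by
    refine ⟨fun v => ?_, ?_, hne⟩
    · induction v using QuotientGroup.induction_on with
      | _ v =>
        rw [← QuotientGroup.mk_mul, ← QuotientGroup.mk_one, hmk]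
        exact Subtype.ext (hPsq _ v.2)
    · exact le_trans (Nat.le_of_dvd Nat.card_pos (Subgroup.card_quotient_dvd_card _)) hP16'
  have hP16 : Nat.card P = 16 := by
    rw [← M'.card_eq]
    exact Nat.card_congr (Equiv.ofBijective (fun m : P => (m : P ⧸ (⊥ : Subgroup Y).subgroupOf P))
      ⟨fun a b h => (hmk a b).1 h, Quotient.mk''_surjective⟩)
  obtain ⟨φ, M, hφ⟩ := L.top_module hrk
  obtain ⟨t, ht, ht1⟩ : ∃ t : A5, t * t = 1 ∧ t ≠ 1 := by decide +kernel
  obtain ⟨y, hy⟩ := L.surj t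
  obtain ⟨hK4, -⟩ := M'.involution ht ht1
  obtain ⟨hC4, himg⟩ := M.involution ht ht1
  subst hy
  have hmemP : ∀ {q : O}, (q : O ⧸ P.subgroupOf O) ∈ fix (φ (π y)) ↔
      y * (q : Y) * y⁻¹ * (q : Y)⁻¹ ∈ P := by
    intro q
    rw [mem_fix, hφ y q, eq_comm, QuotientGroup.eq, Subgroup.mem_subgroupOf, Subgroup.coe_mul,
      Subgroup.coe_inv]
    constructor
    · intro h
      have := L.normalP.conj_mem _ h (q : Y)
      simpa [mul_assoc] using this
    · intro h
      have := L.normalP.conj_mem _ h (q : Y)⁻¹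
      simpa [mul_assoc] using this
  refine TwoLayers.not_sectional O P L.le hPsq hPc L.sq_mem (fun p hp q hq => L.comm_mem hp hq)
    hP16 y ?_ (fun h => ht1 ((MonoidHom.mem_ker (f := π)).1 (L.ker ▸ h)))
    (fun m hm => L.normalP.conj_mem m hm y) ?_ ?_ ?_ hrk
  · rw [← L.ker, MonoidHom.mem_ker, map_mul, ht]
  · rw [← hK4]
    refine Nat.card_congr (Equiv.ofBijective (fun m => (⟨((⟨m.1, m.2.1⟩ : P) :
      P ⧸ (⊥ : Subgroup Y).subgroupOf P), ?_⟩ : fix (φ' (π y)))) ⟨?_, ?_⟩)
    · rw [mem_fix, hφ' y ⟨m.1, m.2.1⟩, hmk]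
      exact Subtype.ext m.2.2
    · intro m m' h
      have h' := (hmk _ _).1 (congrArg (fun t : fix (φ' (π y)) => t.1) h)
      exact Subtype.ext (congrArg (fun t : P => (t : Y)) h')
    · rintro ⟨v, hv⟩
      induction v using QuotientGroup.induction_on with
      | _ v =>
        rw [mem_fix, hφ' y v, hmk] at hv
        exact ⟨⟨v, v.2, congrArg Subtype.val hv⟩, rfl⟩
  · let S : Subgroup O := (fix (φ (π y))).comap (QuotientGroup.mk' (P.subgroupOf O))
    have e1 : Nat.card {x : Y // x ∈ O ∧ y * x * y⁻¹ * x⁻¹ ∈ P} = Nat.card S :=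
      Nat.card_congr
        { toFun := fun x => ⟨⟨x.1, x.2.1⟩, hmemP.2 x.2.2⟩
          invFun := fun x => ⟨(x.1 : Y), x.1.2, hmemP.1 x.2⟩
          left_inv := fun _ => rfl
          right_inv := fun _ => rfl }
    have h1 : S.index = 4 := by
      rw [Subgroup.index_comap_of_surjective _ (QuotientGroup.mk'_surjective _)]
      have := (fix (φ (π y))).card_mul_index
      rw [hC4, M.card_eq] at this
      omega
    have h2 := S.card_mul_index
    rw [h1, L.card_eq hrk, hP16] at h2
    rw [e1]; omega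
  · intro x hx hxm
    obtain ⟨w, hw⟩ := himg ((⟨x, hx⟩ : O) : O ⧸ P.subgroupOf O) (hmemP.2 hxm)
    induction w using QuotientGroup.induction_on with
    | _ w =>
      rw [hφ y w, ← QuotientGroup.mk_mul, QuotientGroup.eq, Subgroup.mem_subgroupOf] at hw
      exact ⟨w, w.2, hw⟩

/-- The quadratic form of a character of the bottom layer. -/
theorem exists_form (hrk : Cfsg.SectionalPRankLE 2 4 Y) (hPgen : ∀ N : Subgroup Y, N.Normal → N ≤ P →
      (∀ q ∈ O, q * q ∈ N) → P ≤ N)
    (φ : haveI := L.normalP; A5 →* MulAut (O ⧸ P.subgroupOf O))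
    (hφ : haveI := L.normalP; ∀ (g : Y) (m : O), φ (π g) (m : O ⧸ P.subgroupOf O) =
        ((⟨g * m * g⁻¹, L.normalO.conj_mem _ m.2 g⟩ : O) : O ⧸ P.subgroupOf O))
    (χ : Y → ZMod 2) (hχ : ∀ p ∈ P, ∀ q ∈ P, χ (p * q) = χ p + χ q) (hne : ∃ p ∈ P, χ p = 1) :
    haveI := L.normalP
    ∃ f : O ⧸ P.subgroupOf O → ZMod 2, Form φ f ∧ (∃ v, f v = 1) ∧
      ∀ q : O, f q = χ ((q : Y) * q) := by
  haveI := L.normalP
  have hcen := L.bottom_central hPsq hPc hrk
  have hwd : ∀ q q' : O, (q : O ⧸ P.subgroupOf O) = q' → χ ((q : Y) * q) = χ ((q' : Y) * q') := by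
    intro q q' e
    rw [QuotientGroup.eq, Subgroup.mem_subgroupOf, Subgroup.coe_mul, Subgroup.coe_inv] at e
    set p := (q : Y)⁻¹ * (q' : Y) with hp
    have : (q' : Y) * q' = (q : Y) * q := by
      have e1 : (q' : Y) = q * p := by rw [hp, mul_inv_cancel_left]
      rw [e1, mul_assoc (q : Y) p, ← mul_assoc p (q : Y) p, hPc p e q q.2, mul_assoc (q : Y) p p,
        hPsq p e, mul_one]
    rw [this]
  let f : O ⧸ P.subgroupOf O → ZMod 2 := fun v => χ ((v.out : Y) * v.out)
  have hf : ∀ q : O, f q = χ ((q : Y) * q) := fun q => hwd _ _ (Quotient.out_eq' _)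
  have hpol : ∀ p q : O, polar f (p : O ⧸ P.subgroupOf O) q = χ ((q : Y) * p * (q : Y)⁻¹ * (p : Y)⁻¹) := by
    intro p q
    rw [polar, ← QuotientGroup.mk_mul, hf, hf, hf, Subgroup.coe_mul]
    have hc := L.comm_mem q.2 p.2
    set c := (q : Y) * p * (q : Y)⁻¹ * (p : Y)⁻¹ with hc'
    have e : (p : Y) * q * ((p : Y) * q) = c * ((p : Y) * p * ((q : Y) * q)) := by
      calc (p : Y) * q * ((p : Y) * q) = (p : Y) * (c * ((p : Y) * q)) * q := by rw [hc']; group
        _ = (p : Y) * c * ((p : Y) * q * q) := by simp only [mul_assoc]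
        _ = _ := by rw [← hPc c hc p p.2]; simp only [mul_assoc]
    rw [e, hχ _ hc _ (mul_mem (L.sq_mem _ p.2) (L.sq_mem _ q.2)), hχ _ (L.sq_mem _ p.2) _ (L.sq_mem _ q.2),
      add_assoc, add_assoc]
    generalize χ c = x
    generalize χ ((p : Y) * p) = a
    generalize χ ((q : Y) * q) = b
    revert x a b
    decide
  refine ⟨f, ⟨fun u w v => ?_, fun a v => ?_⟩, ?_, hf⟩
  · induction u using QuotientGroup.induction_on with
    | _ u =>
      induction w using QuotientGroup.induction_on with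
      | _ w =>
        induction v using QuotientGroup.induction_on with
        | _ v =>
          rw [← QuotientGroup.mk_mul, hpol, hpol, hpol, Subgroup.coe_mul,
            show (v : Y) * ((u : Y) * w) * (v : Y)⁻¹ * ((u : Y) * w)⁻¹ =
              ((v : Y) * u * (v : Y)⁻¹ * (u : Y)⁻¹) *
                ((u : Y) * ((v : Y) * w * (v : Y)⁻¹ * (w : Y)⁻¹) * (u : Y)⁻¹) by group,
            hcen _ (L.comm_mem v.2 w.2), hχ _ (L.comm_mem v.2 u.2) _ (L.comm_mem v.2 w.2)]
  · obtain ⟨g, rfl⟩ := L.surj a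
    induction v using QuotientGroup.induction_on with
    | _ v =>
      rw [hφ, hf, hf]
      show χ (g * (v : Y) * g⁻¹ * (g * (v : Y) * g⁻¹)) = _
      rw [conj_mul, hcen _ (L.sq_mem _ v.2)]
  · by_contra hall
    push Not at hall
    have hchi0 : χ 1 = 0 := by
      have h := hχ 1 (one_mem P) 1 (one_mem P)
      rw [one_mul] at h
      revert h
      generalize χ 1 = x
      revert x
      decide
    let N : Subgroup Y :=
      { carrier := {p | p ∈ P ∧ χ p = 0}
        one_mem' := ⟨one_mem P, hchi0⟩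
        mul_mem' := fun {p q} hp hq => ⟨mul_mem hp.1 hq.1, by rw [hχ _ hp.1 _ hq.1, hp.2, hq.2, add_zero]⟩
        inv_mem' := fun {p} hp => by
          rw [inv_eq_of_mul_eq_one_right (hPsq p hp.1)]; exact hp }
    obtain ⟨p, hp, hp1⟩ := hne
    have hle := hPgen N ⟨fun n hn g => by rw [hcen n hn.1 g]; exact hn⟩ (fun n hn => hn.1)
      (fun q hq => ⟨L.sq_mem q hq, by
        have h := hall ((⟨q, hq⟩ : O) : O ⧸ P.subgroupOf O)
        rw [hf] at h
        exact (cases_two _).resolve_right h⟩)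
    have := (hle hp).2
    rw [hp1] at this
    exact absurd this (by decide)

end Lay

end CfsgLib.Sectional.Layer
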