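import Mathlib
import Cfsg.Agent.Lib.Sectional.Layer
import Cfsg.Agent.Lib.Solvable.Basic
import Cfsg.Agent.Lib.Solvable.FrattiniFitting
import Cfsg.Agent.Lib.TwoGroups.SectionalTwo

/-!
# Minimal layers over a module for the alternating group of degree five

The bottom layer, when minimal, has order two; the top group then has a symplectic basis of elements.
-/

set_option autoImplicit false
set_option linter.style.haveILetI false
set_option linter.unusedSectionVars false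

namespace CfsgLib.Sectional.A5Radical

open A5Module A5Forms Layer

universe u

variable {Y : Type u} [Group Y]

/-- The bottom layer is generated as a normal subgroup by the squares. -/
def Gen (O P : Subgroup Y) : Prop :=
  ∀ N : Subgroup Y, N.Normal → N ≤ P → (∀ q ∈ O, q * q ∈ N) → P ≤ N

/-- Passing to a quotient. -/
theorem quot {O P : Subgroup Y} {π : Y →* A5} (L : Lay O P π) (hg : Gen O P) (N : Subgroup Y) [N.Normal]
    (hN : N ≤ P) : ∃ π' : Y ⧸ N →* A5,
      Lay (O.map (QuotientGroup.mk' N)) (P.map (QuotientGroup.mk' N)) π' ∧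
      Gen (O.map (QuotientGroup.mk' N)) (P.map (QuotientGroup.mk' N)) := by
  haveI := L.normalO
  haveI := L.normalP
  have hs := QuotientGroup.mk'_surjective N
  have hNk : N ≤ π.ker := by rw [L.ker]; exact hN.trans L.le
  have hcO : (O.map (QuotientGroup.mk' N)).comap (QuotientGroup.mk' N) = O :=
    Subgroup.comap_map_eq_self (by rw [QuotientGroup.ker_mk']; exact hN.trans L.le)
  have hcP : (P.map (QuotientGroup.mk' N)).comap (QuotientGroup.mk' N) = P :=
    Subgroup.comap_map_eq_self (by rw [QuotientGroup.ker_mk']; exact hN)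
  refine ⟨QuotientGroup.lift N π hNk, ⟨Subgroup.Normal.map inferInstance _ hs,
    Subgroup.Normal.map inferInstance _ hs, Subgroup.map_mono L.le, L.two.map _,
    fun a => ?_, ?_, ?_, ?_⟩, ?_⟩
  · obtain ⟨y, rfl⟩ := L.surj a
    exact ⟨QuotientGroup.mk' N y, rfl⟩
  · ext y
    obtain ⟨y, rfl⟩ := hs y
    rw [MonoidHom.mem_ker, ← Subgroup.mem_comap, hcO, ← L.ker, MonoidHom.mem_ker]
    rfl
  · rintro _ ⟨q, hq, rfl⟩
    exact ⟨q * q, L.sq_mem q hq, map_mul _ q q⟩
  · intro g hgO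
    obtain ⟨g, rfl⟩ := hs g
    obtain ⟨q, hq, hqn⟩ := L.moves g (fun h => hgO ⟨g, h, rfl⟩)
    refine ⟨QuotientGroup.mk' N q, ⟨q, hq, rfl⟩, fun h => hqn ?_⟩
    rw [← hcP, Subgroup.mem_comap]
    simpa only [map_mul, map_inv] using h
  · intro K hK hKP hsq
    haveI := hK
    have h1 : P ≤ K.comap (QuotientGroup.mk' N) := by
      refine hg _ inferInstance ?_ (fun q hq => ?_)
      · rw [← hcP]; exact Subgroup.comap_mono hKP
      · rw [Subgroup.mem_comap, map_mul]; exact hsq _ ⟨q, hq, rfl⟩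
    exact Subgroup.map_le_iff_le_comap.2 h1

variable [Finite Y] {O P : Subgroup Y} {π : Y →* A5} (L : Lay O P π)
include L

/-- A minimal normal subgroup inside the bottom layer is elementary and centralized by `O`. -/
theorem minimal_central (M : Subgroup Y) [M.Normal] (hMP : M ≤ P) (hM : M ≠ ⊥)
    (hmin : ∀ K : Subgroup Y, K.Normal → K ≤ M → K = ⊥ ∨ K = M) :
    (∀ m ∈ M, m * m = 1) ∧ ∀ m ∈ M, ∀ q ∈ O, m * q = q * m := by
  haveI := L.normalO
  haveI : Fact (Nat.Prime 2) := ⟨Nat.prime_two⟩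
  have hMO : M ≤ O := hMP.trans L.le
  haveI : Group.IsNilpotent O := L.two.isNilpotent
  have hMb : M.subgroupOf O ≠ ⊥ := fun h => hM (by
    rw [← Subgroup.map_subgroupOf_eq_of_le hMO, h, Subgroup.map_bot])
  obtain ⟨x, hx, hx1⟩ := (Subgroup.ne_bot_iff_exists_ne_one.1
    (CfsgLib.Solvable.FrattiniFitting.inf_center_ne_bot (M.subgroupOf O) hMb)) |>.elim
    fun x h => (⟨x.1, x.2, fun h' => h (Subtype.ext h')⟩ : ∃ x, x ∈ M.subgroupOf O ⊓ Subgroup.center O ∧ x ≠ 1)
  have hc : ∀ m ∈ M, ∀ q ∈ O, m * q = q * m := by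
    rcases hmin (M ⊓ Subgroup.centralizer (O : Set Y)) inferInstance inf_le_left with h | h
    · refine absurd (Subtype.ext ?_) hx1
      have hmem : (x : Y) ∈ M ⊓ Subgroup.centralizer (O : Set Y) :=
        ⟨hx.1, Subgroup.mem_centralizer_iff.2 fun q hq =>
          congrArg Subtype.val (Subgroup.mem_center_iff.1 hx.2 ⟨q, hq⟩)⟩
      rw [h] at hmem
      exact Subgroup.mem_bot.1 hmem
    · intro m hm q hq
      rw [← h] at hm
      exact (Subgroup.mem_centralizer_iff.1 hm.2 q hq).symm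
  refine ⟨fun m hm => ?_, hc⟩
  let S : Subgroup Y :=
    { carrier := {m | m ∈ M ∧ m * m = 1}
      one_mem' := ⟨one_mem M, mul_one 1⟩
      mul_mem' := fun {a b} ha hb => ⟨mul_mem ha.1 hb.1, by
        rw [mul_assoc a b, ← mul_assoc b a b, ← hc a ha.1 b (hMO hb.1), mul_assoc a b b, hb.2, mul_one,
          ha.2]⟩
      inv_mem' := fun {a} ha => ⟨inv_mem ha.1, by rw [← mul_inv_rev, ha.2, inv_one]⟩ }
  have hS : S.Normal := ⟨fun a ha g => ⟨Subgroup.Normal.conj_mem inferInstance a ha.1 g, by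
    rw [conj_mul, ha.2, mul_one, mul_inv_cancel]⟩⟩
  rcases hmin S hS (fun a ha => ha.1) with h | h
  · exfalso
    haveI : Nontrivial M := (Subgroup.nontrivial_iff_ne_bot M).2 hM
    obtain ⟨k, hMc⟩ := IsPGroup.iff_card.1 (L.two.to_le hMO)
    have hk : k ≠ 0 := fun h => by
      rw [h, pow_zero] at hMc
      exact hM (Subgroup.card_eq_one.1 hMc)
    obtain ⟨t, ht⟩ := exists_prime_orderOf_dvd_card' (G := M) 2 (by rw [hMc]; exact dvd_pow_self 2 hk)
    have htS : (t : Y) ∈ S := ⟨t.2, by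
      have := congrArg Subtype.val (pow_orderOf_eq_one t)
      rw [ht] at this
      simpa [pow_two] using this⟩
    rw [h, Subgroup.mem_bot] at htS
    rw [show t = 1 from Subtype.ext htS, orderOf_one] at ht
    exact absurd ht (by norm_num)
  · rw [← h] at hm; exact hm.2

omit L in
/-- A central minimal normal subgroup of exponent two has order two. -/
theorem card_two {M : Subgroup Y} (hM : M ≠ ⊥) (hmin : ∀ K : Subgroup Y, K.Normal → K ≤ M → K = ⊥ ∨ K = M)
    (hsq : ∀ m ∈ M, m * m = 1) (hcen : ∀ m ∈ M, ∀ g : Y, g * m * g⁻¹ = m) : Nat.card M = 2 := by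
  obtain ⟨⟨m, hm⟩, hm1⟩ := Subgroup.ne_bot_iff_exists_ne_one.1 hM
  have hm1' : m ≠ 1 := fun h => hm1 (Subtype.ext h)
  have hle : Subgroup.zpowers m ≤ M := Subgroup.zpowers_le.2 hm
  rcases hmin _ ⟨fun a ha g => by rw [hcen a (hle ha) g]; exact ha⟩ hle with h | h
  · exact absurd (Subgroup.zpowers_eq_bot.1 h) hm1'
  · rw [← h, Nat.card_zpowers]
    exact orderOf_eq_prime (by rw [pow_two]; exact hsq m hm) hm1'

/-- A minimal bottom layer is central of order two. -/
theorem bottom_two (hrk : Cfsg.SectionalPRankLE 2 4 Y) (hP : P ≠ ⊥)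
    (hmin : ∀ K : Subgroup Y, K.Normal → K ≤ P → K = ⊥ ∨ K = P) :
    Nat.card P = 2 ∧ ∀ p ∈ P, ∀ g : Y, g * p * g⁻¹ = p := by
  haveI := L.normalP
  obtain ⟨hsq, hc⟩ := minimal_central L P le_rfl hP hmin
  have hcen := L.bottom_central hsq hc hrk
  exact ⟨card_two hP hmin hsq hcen, hcen⟩

omit L in
theorem mem_two {P : Subgroup Y} (h2 : Nat.card P = 2) {z : Y} (hz : z ∈ P) (hz1 : z ≠ 1) {p : Y}
    (hp : p ∈ P) : p = 1 ∨ p = z := by
  by_contra h
  push Not at h
  obtain ⟨w, -, huniq⟩ := (Nat.card_eq_two_iff' (1 : P)).1 h2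
  have e1 := huniq ⟨p, hp⟩ (fun e => h.1 (congrArg Subtype.val e))
  have e2 := huniq ⟨z, hz⟩ (fun e => hz1 (congrArg Subtype.val e))
  exact h.2 (congrArg Subtype.val (e1.trans e2.symm))

/-- Symplectic elements over a bottom layer of order two. -/
theorem basis (hrk : Cfsg.SectionalPRankLE 2 4 Y) (hg : Gen O P) (h2 : Nat.card P = 2) :
    ∃ z a b c d : Y, (z ∈ P ∧ z ≠ 1) ∧ (a ∈ O ∧ b ∈ O ∧ c ∈ O ∧ d ∈ O) ∧ c ∉ P ∧
      (a * a = z ∧ b * b = z ∧ c * c = z ∧ d * d = 1) ∧ (b * a * b⁻¹ = a⁻¹ ∧ d * c * d⁻¹ = c⁻¹) ∧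
      (a * c = c * a ∧ a * d = d * a ∧ b * c = c * b ∧ b * d = d * b) ∧
      (∀ K : Subgroup Y, a ∈ K → b ∈ K → c ∈ K → d ∈ K → z ∈ K → O ≤ K) ∧
      (∀ x ∈ O, (∀ q ∈ O, x * q = q * x) → x ∈ P) := by
  classical
  haveI := L.normalP
  obtain ⟨⟨z, hz⟩, hz1', -⟩ := (Nat.card_eq_two_iff' (1 : P)).1 h2
  have hz1 : z ≠ 1 := fun h => hz1' (Subtype.ext h)
  have hcases : ∀ p ∈ P, p = 1 ∨ p = z := fun p hp => mem_two h2 hz hz1 hp
  have hzz : z * z = 1 := (hcases _ (mul_mem hz hz)).resolve_right (fun h => hz1 (mul_eq_left.1 h))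
  have hPsq : ∀ p ∈ P, p * p = 1 := fun p hp => by
    rcases hcases p hp with rfl | rfl
    · exact one_mul 1
    · exact hzz
  have hzc : ∀ g : Y, g * z * g⁻¹ = z := fun g =>
    (hcases _ (L.normalP.conj_mem z hz g)).resolve_left (fun h => hz1 (conj_eq_one_iff.1 h))
  have hPc : ∀ p ∈ P, ∀ q ∈ O, p * q = q * p := fun p hp q _ => by
    rcases hcases p hp with rfl | rfl
    · rw [one_mul, mul_one]
    · exact (mul_inv_eq_iff_eq_mul.1 (hzc q)).symm
  let χ : Y → ZMod 2 := fun p => if p = 1 then 0 else 1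
  have hχ0 : ∀ p, χ p = 0 → p = 1 := fun p h => by
    by_contra hp
    simp only [χ, if_neg hp] at h
    exact absurd h (by decide)
  have hχ1 : ∀ p ∈ P, χ p = 1 → p = z := fun p hp h =>
    (hcases p hp).resolve_left (fun h1 => by simp [χ, h1] at h)
  have hχ : ∀ p ∈ P, ∀ q ∈ P, χ (p * q) = χ p + χ q := fun p hp q hq => by
    rcases hcases p hp with rfl | rfl
    · simp [χ]
    rcases hcases q hq with rfl | rfl
    · simp [χ]
    · simp only [χ, hzz, if_true, if_neg hz1]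
      decide
  have hχinj : ∀ p ∈ P, ∀ q ∈ P, χ p = χ q → p = q := fun p hp q hq h => by
    rcases cases_two (χ q) with e | e
    · rw [hχ0 p (h.trans e), hχ0 q e]
    · rw [hχ1 p hp (h.trans e), hχ1 q hq e]
  obtain ⟨φ, M, hφ⟩ := L.top_module hrk
  obtain ⟨f, F, hf1, hf⟩ := L.exists_form hPsq hPc hrk hg φ hφ χ hχ ⟨z, hz, by simp [χ, hz1]⟩
  obtain ⟨a', b', c', d', ⟨fa, fb, fab, fc, fd⟩, ⟨pab, pcd, pac, pad, pbc, pbd⟩, hgen⟩ :=
    exists_basis M F hf1
  obtain ⟨a, rfl⟩ := QuotientGroup.mk'_surjective (P.subgroupOf O) a'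
  obtain ⟨b, rfl⟩ := QuotientGroup.mk'_surjective (P.subgroupOf O) b'
  obtain ⟨c, rfl⟩ := QuotientGroup.mk'_surjective (P.subgroupOf O) c'
  obtain ⟨d, rfl⟩ := QuotientGroup.mk'_surjective (P.subgroupOf O) d'
  simp only [QuotientGroup.mk'_apply] at *
  have hcomm : ∀ x y : O, polar f (x : O ⧸ P.subgroupOf O) y = 0 → (x : Y) * y = y * x := by
    intro x y h
    rw [polar, ← QuotientGroup.mk_mul, hf, hf, hf, Subgroup.coe_mul] at h
    have e : (x : Y) * y * ((x : Y) * y) = (x : Y) * x * ((y : Y) * y) := by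
      refine hχinj _ (L.sq_mem _ (mul_mem x.2 y.2)) _ (mul_mem (L.sq_mem _ x.2) (L.sq_mem _ y.2)) ?_
      rw [hχ _ (L.sq_mem _ x.2) _ (L.sq_mem _ y.2)]
      revert h
      generalize χ ((x : Y) * y * ((x : Y) * y)) = i
      generalize χ ((x : Y) * x) = j
      generalize χ ((y : Y) * y) = k
      revert i j k
      decide
    simp only [mul_assoc] at e
    have e2 := mul_left_cancel e
    simp only [← mul_assoc] at e2
    exact (mul_right_cancel e2).symm
  have sq1 : ∀ x : O, f (x : O ⧸ P.subgroupOf O) = 1 → (x : Y) * x = z := fun x h =>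
    hχ1 _ (L.sq_mem _ x.2) (by rw [← hf x]; exact h)
  have hd2 : (d : Y) * d = 1 := hχ0 _ (by rw [← hf d]; exact fd)
  have hab : (a : Y) * b * ((a : Y) * b) = z := by
    rw [← Subgroup.coe_mul]
    exact sq1 (a * b) (by rw [QuotientGroup.mk_mul]; exact fab)
  have hcd : (c : Y) * d * ((c : Y) * d) = 1 := by
    refine hχ0 _ ?_
    rw [← Subgroup.coe_mul, ← hf (c * d), QuotientGroup.mk_mul]
    have h := pcd
    rw [polar, fc, fd, add_zero] at h
    revert h
    generalize f ((c : O ⧸ P.subgroupOf O) * d) = i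
    revert i
    decide
  refine ⟨z, a, b, c, d, ⟨hz, hz1⟩, ⟨a.2, b.2, c.2, d.2⟩, fun h => ?_,
    ⟨sq1 a fa, sq1 b fb, sq1 c fc, hd2⟩, ⟨?_, ?_⟩,
    ⟨hcomm a c pac, hcomm a d pad, hcomm b c pbc, hcomm b d pbd⟩, ?_, ?_⟩
  · have h0 : (c : O ⧸ P.subgroupOf O) = 1 := L.mk_eq_one.2 h
    rw [h0, form_one M F] at fc
    exact absurd fc (by decide)
  · have e : (a : Y) * b * a = b := by
      refine mul_right_cancel (b := (b : Y)) ?_
      rw [mul_assoc ((a : Y) * b) a b, hab, sq1 b fb]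
    calc (b : Y) * a * (b : Y)⁻¹ = (a : Y)⁻¹ * ((a : Y) * b * a) * (b : Y)⁻¹ := by group
      _ = (a : Y)⁻¹ := by rw [e, mul_inv_cancel_right]
  · have e : (d : Y)⁻¹ = d := inv_eq_of_mul_eq_one_right hd2
    rw [e]
    exact (inv_eq_of_mul_eq_one_right (by rw [← hcd]; simp only [mul_assoc])).symm
  · intro K ka kb kc kd kz q hq
    have hle : Subgroup.closure ({(a : O ⧸ P.subgroupOf O), (b : O ⧸ P.subgroupOf O),
        (c : O ⧸ P.subgroupOf O), (d : O ⧸ P.subgroupOf O)} : Set _) ≤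
        (K.subgroupOf O).map (QuotientGroup.mk' (P.subgroupOf O)) := by
      rw [Subgroup.closure_le]
      rintro v (rfl | rfl | rfl | rfl)
      · exact ⟨a, ka, rfl⟩
      · exact ⟨b, kb, rfl⟩
      · exact ⟨c, kc, rfl⟩
      · exact ⟨d, kd, rfl⟩
    obtain ⟨k, hk, he⟩ := hle (hgen ((⟨q, hq⟩ : O) : O ⧸ P.subgroupOf O))
    rw [QuotientGroup.mk'_apply, QuotientGroup.eq, Subgroup.mem_subgroupOf, Subgroup.coe_mul,
      Subgroup.coe_inv] at he
    rcases hcases _ he with e | e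
    · have hqk : (k : Y) = q := inv_mul_eq_one.1 e
      rw [← hqk]; exact hk
    · have hqk : q = (k : Y) * z := inv_mul_eq_iff_eq_mul.1 e
      rw [hqk]; exact mul_mem hk kz
  · intro x hx hxc
    refine (L.mk_eq_one (p := ⟨x, hx⟩)).1 (nondeg M F hf1 fun v => ?_)
    induction v using QuotientGroup.induction_on with
    | _ y =>
      rw [polar, ← QuotientGroup.mk_mul, hf, hf, hf, Subgroup.coe_mul]
      show χ (x * (y : Y) * (x * y)) + χ (x * x) + χ ((y : Y) * y) = 0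
      rw [show x * (y : Y) * (x * y) = x * x * ((y : Y) * y) by
        rw [mul_assoc x (y : Y), ← mul_assoc (y : Y) x, ← hxc y y.2]; simp only [mul_assoc],
        hχ _ (L.sq_mem _ hx) _ (L.sq_mem _ y.2)]
      generalize χ (x * x) = i
      generalize χ ((y : Y) * y) = j
      revert i j
      decide

end CfsgLib.Sectional.A5Radical
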