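import Mathlib
import Cfsg.Agent.Lib.Sectional.A5RadicalBasis
import Cfsg.Agent.Lib.TwoGroups.CyclicMax

/-!
# The two-core under an alternating quotient of degree five in sectional rank four

The Frattini layer has order at most two and the core is then a central product of a quaternion and a
dihedral group of order eight.
-/

set_option autoImplicit false
set_option linter.style.haveILetI false
set_option linter.unusedSectionVars false

namespace CfsgLib.Sectional.A5Radical

open A5Module A5Forms Layer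

universe u

variable {Y : Type u} [Group Y] [Finite Y] {O P : Subgroup Y} {π : Y →* A5} (L : Lay O P π)
include L

/-- There are no two layers below the module. -/
theorem two_layers (hrk : Cfsg.SectionalPRankLE 2 4 Y) (hg : Gen O P) (M : Subgroup Y) [M.Normal]
    (hM : M ≠ ⊥) (hMP : M < P) (hmin : ∀ K : Subgroup Y, K.Normal → K ≤ M → K = ⊥ ∨ K = M)
    (hmax : ∀ K : Subgroup Y, K.Normal → M ≤ K → K ≤ P → K = M ∨ K = P) : False := by
  classical
  haveI := L.normalO
  haveI := L.normalP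
  have hs := QuotientGroup.mk'_surjective M
  have hcP : (P.map (QuotientGroup.mk' M)).comap (QuotientGroup.mk' M) = P :=
    Subgroup.comap_map_eq_self (by rw [QuotientGroup.ker_mk']; exact hMP.le)
  obtain ⟨π', L', hg'⟩ := quot L hg M hMP.le
  have hrk' := CfsgLib.TwoGroups.SectionalTwo.sectional_quotient hrk M
  have hPne : P.map (QuotientGroup.mk' M) ≠ ⊥ := fun h => hMP.not_ge (by
    rw [← hcP, h, MonoidHom.comap_bot, QuotientGroup.ker_mk'])
  have hmin' : ∀ K : Subgroup (Y ⧸ M), K.Normal → K ≤ P.map (QuotientGroup.mk' M) →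
      K = ⊥ ∨ K = P.map (QuotientGroup.mk' M) := by
    intro K hK hKP
    haveI := hK
    rcases hmax (K.comap (QuotientGroup.mk' M)) inferInstance
      ((QuotientGroup.ker_mk' M).symm.le.trans (MonoidHom.ker_le_comap _ _))
      (by rw [← hcP]; exact Subgroup.comap_mono hKP) with h | h
    · left
      rw [← Subgroup.map_comap_eq_self_of_surjective hs K, h, QuotientGroup.map_mk'_self]
    · right
      rw [← Subgroup.map_comap_eq_self_of_surjective hs K, h]
  obtain ⟨h2', -⟩ := bottom_two L' hrk' hPne hmin'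
  obtain ⟨z', a', b', c', d', ⟨hz', hz1'⟩, ⟨haO, hbO, hcO, -⟩, hcP', ⟨hasq, -, -, -⟩, ⟨hba, -⟩,
    ⟨hac, -, hbc, -⟩, -, -⟩ := basis L' hrk' hg' h2'
  obtain ⟨A, hA, rfl⟩ := haO
  obtain ⟨B, hB, rfl⟩ := hbO
  obtain ⟨C, hC, rfl⟩ := hcO
  obtain ⟨hMsq, hMc⟩ := minimal_central L M hMP.le hM hmin
  set z := B * A * B⁻¹ * A⁻¹ with hzdef
  have hzP : z ∈ P := L.comm_mem hB hA
  have hzM : z ∉ M := fun h => by
    have e : QuotientGroup.mk' M z = 1 := (QuotientGroup.eq_one_iff z).2 h
    rw [hzdef] at e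
    simp only [map_mul, map_inv] at e
    rw [hba, ← mul_inv_rev, inv_eq_one, hasq] at e
    exact hz1' e
  have hPcases : ∀ p ∈ P, p ∈ M ∨ p * z⁻¹ ∈ M := by
    intro p hp
    have hzimg : QuotientGroup.mk' M z ∈ P.map (QuotientGroup.mk' M) := ⟨z, hzP, rfl⟩
    rcases mem_two h2' hzimg (fun h => hzM ((QuotientGroup.eq_one_iff z).1 h))
      (⟨p, hp, rfl⟩ : QuotientGroup.mk' M p ∈ P.map (QuotientGroup.mk' M)) with e | e
    · exact Or.inl ((QuotientGroup.eq_one_iff p).1 e)
    · refine Or.inr ((QuotientGroup.eq_one_iff _).1 ?_)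
      show QuotientGroup.mk' M (p * z⁻¹) = 1
      rw [map_mul, map_inv, e, mul_inv_cancel]
  have hcen : ∀ x ∈ O, x * z = z * x → ∀ p ∈ P, p * x = x * p := by
    intro x hx hxz p hp
    rcases hPcases p hp with h | h
    · exact hMc p h x hx
    · have e : p = p * z⁻¹ * z := (inv_mul_cancel_right p z).symm
      have hm := hMc _ h x hx
      rw [e]
      generalize p * z⁻¹ = m at hm ⊢
      rw [mul_assoc, ← hxz, ← mul_assoc, hm, mul_assoc]
  -- the third element commutes with the bottom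
  have hCz : C * z = z * C := by
    have hcm : ∀ X : Y, QuotientGroup.mk' M X * QuotientGroup.mk' M C =
        QuotientGroup.mk' M C * QuotientGroup.mk' M X → C * X * C⁻¹ * X⁻¹ ∈ M := fun X h => by
      refine (QuotientGroup.eq_one_iff _).1 ?_
      show QuotientGroup.mk' M (C * X * C⁻¹ * X⁻¹) = 1
      simp only [map_mul, map_inv]
      rw [← h, mul_inv_cancel_right, mul_inv_cancel]
    have hm := hcm A hac
    have hm' := hcm B hbc
    set m := C * A * C⁻¹ * A⁻¹ with hmdef
    set m' := C * B * C⁻¹ * B⁻¹ with hmdef'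
    have e : C * z * C⁻¹ = z := by
      have e1 : C * z * C⁻¹ = (m' * B) * (m * A) * (m' * B)⁻¹ * (m * A)⁻¹ := by
        rw [hmdef, hmdef', hzdef]; group
      have e2 : (m' * B) * (m * A) * (m' * B)⁻¹ = m * (B * A * B⁻¹) := by
        have h1 : B * (m * A) * B⁻¹ = m * (B * A * B⁻¹) := by
          rw [← mul_assoc B m A, ← hMc m hm B hB]; simp only [mul_assoc]
        have h2 : B * (m * A) * B⁻¹ ∈ O :=
          mul_mem (mul_mem hB (mul_mem (hMP.le.trans L.le hm) hA)) (inv_mem hB)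
        calc (m' * B) * (m * A) * (m' * B)⁻¹ = m' * (B * (m * A) * B⁻¹) * m'⁻¹ := by group
          _ = B * (m * A) * B⁻¹ := by rw [hMc m' hm' _ h2, mul_inv_cancel_right]
          _ = _ := h1
      rw [e1, e2]
      calc m * (B * A * B⁻¹) * (m * A)⁻¹ = m * z * m⁻¹ := by rw [hzdef]; group
        _ = z := by rw [hMc m hm z (L.le hzP), mul_inv_cancel_right]
    exact mul_inv_eq_iff_eq_mul.1 e
  -- the centralizer of the bottom
  let R : Subgroup Y := O ⊓ Subgroup.centralizer (P : Set Y)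
  haveI : R.Normal := inferInstance
  have hPR : P ≤ R := fun p hp => by
    refine ⟨L.le hp, Subgroup.mem_centralizer_iff.2 (hcen p (L.le hp) ?_)⟩
    rcases hPcases p hp with h | h
    · exact hMc p h z (L.le hzP)
    · have hm := hMc _ h z (L.le hzP)
      rw [inv_mul_cancel_right] at hm
      calc p * z = z * (p * z⁻¹) * z := by rw [← hm]
        _ = z * p := by group
  obtain ⟨φ, Mo, hφ⟩ := L.top_module hrk
  let W : Subgroup (O ⧸ P.subgroupOf O) := (R.subgroupOf O).map (QuotientGroup.mk' (P.subgroupOf O))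
  have hWtop : W = ⊤ := by
    refine (Mo.irreducible W ?_).resolve_left ?_
    · intro a v hv
      obtain ⟨g, rfl⟩ := L.surj a
      obtain ⟨r, hr, rfl⟩ := hv
      rw [QuotientGroup.mk'_apply, hφ]
      exact ⟨⟨g * r * g⁻¹, L.normalO.conj_mem _ r.2 g⟩, (inferInstance : R.Normal).conj_mem _ hr g, rfl⟩
    · intro h
      have hCW : ((⟨C, hC⟩ : O) : O ⧸ P.subgroupOf O) ∈ W :=
        ⟨⟨C, hC⟩, ⟨hC, Subgroup.mem_centralizer_iff.2 (hcen C hC hCz)⟩, rfl⟩
      rw [h, Subgroup.mem_bot, L.mk_eq_one] at hCW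
      exact hcP' ⟨C, hCW, rfl⟩
  have hOR : O ≤ R := fun q hq => by
    obtain ⟨r, hr, he⟩ := (hWtop ▸ Subgroup.mem_top _ : ((⟨q, hq⟩ : O) : O ⧸ P.subgroupOf O) ∈ W)
    rw [QuotientGroup.mk'_apply, QuotientGroup.eq, Subgroup.mem_subgroupOf, Subgroup.coe_mul,
      Subgroup.coe_inv] at he
    have := mul_mem (show (r : Y) ∈ R from hr) (hPR he)
    rwa [mul_inv_cancel_left] at this
  have hPc : ∀ p ∈ P, ∀ q ∈ O, p * q = q * p := fun p hp q hq =>
    Subgroup.mem_centralizer_iff.1 (hOR hq).2 p hp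
  have hzsq : z * z = 1 := by
    have hA2 := L.sq_mem A hA
    have e1 : B * (A * A) * B⁻¹ = A * A := by rw [← hPc _ hA2 B hB, mul_inv_cancel_right]
    have e2 : B * (A * A) * B⁻¹ = z * z * (A * A) := by
      calc B * (A * A) * B⁻¹ = (z * A) * (z * A) := by rw [hzdef]; group
        _ = z * (A * z) * A := by simp only [mul_assoc]
        _ = z * (z * A) * A := by rw [← hPc z hzP A hA]
        _ = _ := by simp only [mul_assoc]
    rw [e1] at e2
    exact right_eq_mul.1 e2
  have hPsq : ∀ p ∈ P, p * p = 1 := fun p hp => by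
    rcases hPcases p hp with h | h
    · exact hMsq p h
    · have e : p = p * z⁻¹ * z := (inv_mul_cancel_right p z).symm
      have hm := hMc _ h z (L.le hzP)
      have hm2 := hMsq _ h
      rw [e]
      generalize p * z⁻¹ = m at hm hm2 ⊢
      rw [mul_assoc m z, ← mul_assoc z m, ← hm, mul_assoc m z, hzsq, mul_one, hm2]
  have hcenY := L.bottom_central hPsq hPc hrk
  have hM2 : Nat.card M = 2 := card_two hM hmin hMsq (fun m hm => hcenY m (hMP.le hm))
  have hP4 : Nat.card P = 4 := by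
    have h := Subgroup.card_mul_index (M.subgroupOf P)
    rw [Nat.card_congr (Subgroup.subgroupOfEquivOfLe hMP.le).toEquiv, hM2] at h
    have h3 : (M.subgroupOf P).index = Nat.card (P.map (QuotientGroup.mk' M)) := by
      have hk : ((QuotientGroup.mk' M).comp P.subtype).ker = M.subgroupOf P := by
        ext p
        exact (QuotientGroup.eq_one_iff (p : Y))
      have hr : ((QuotientGroup.mk' M).comp P.subtype).range = P.map (QuotientGroup.mk' M) := by
        rw [MonoidHom.range_comp, Subgroup.range_subtype]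
      rw [← hk, Subgroup.index_ker, hr]
    rw [h3, h2'] at h
    omega
  haveI : IsKleinFour P := by
    refine ⟨hP4, ?_⟩
    refine Nat.prime_two.eq_one_or_self_of_dvd _ (Monoid.exponent_dvd_of_forall_pow_eq_one fun p => ?_)
      |>.resolve_left fun h1 => ?_
    · exact Subtype.ext (by rw [Subgroup.coe_pow, pow_two]; exact hPsq p p.2)
    · haveI := (Monoid.exp_eq_one_iff (G := P)).1 h1
      rw [Nat.card_of_subsingleton (1 : P)] at hP4
      omega
  obtain ⟨e⟩ : Nonempty (P ≃* Multiplicative (ZMod 2 × ZMod 2)) := IsKleinFour.nonempty_mulEquiv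
  let ψ : Y → ZMod 2 × ZMod 2 := fun p => if h : p ∈ P then (e ⟨p, h⟩).toAdd else 0
  have hψ : ∀ p ∈ P, ∀ q ∈ P, ψ (p * q) = ψ p + ψ q := fun p hp q hq => by
    simp only [ψ, dif_pos hp, dif_pos hq, dif_pos (mul_mem hp hq)]
    rw [← toAdd_mul, ← map_mul]; rfl
  have hψs : ∀ v, ∃ p ∈ P, ψ p = v := fun v => by
    refine ⟨e.symm (Multiplicative.ofAdd v), Subtype.prop _, ?_⟩
    simp only [ψ, dif_pos (Subtype.prop _)]
    rw [Subtype.coe_eta, e.apply_symm_apply]; rfl
  obtain ⟨p10, hp10, hq10⟩ := hψs (1, 0)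
  obtain ⟨p01, hp01, hq01⟩ := hψs (0, 1)
  obtain ⟨f, Ff, hf1, hf⟩ := L.exists_form hPsq hPc hrk hg φ hφ (fun p => (ψ p).1)
    (fun p hp q hq => congrArg Prod.fst (hψ p hp q hq)) ⟨p10, hp10, congrArg Prod.fst hq10⟩
  obtain ⟨g, Fg, hg1, hgf⟩ := L.exists_form hPsq hPc hrk hg φ hφ (fun p => (ψ p).2)
    (fun p hp q hq => congrArg Prod.snd (hψ p hp q hq)) ⟨p01, hp01, congrArg Prod.snd hq01⟩
  obtain ⟨k, Fk, hk1, hkf⟩ := L.exists_form hPsq hPc hrk hg φ hφ (fun p => (ψ p).1 + (ψ p).2)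
    (fun p hp q hq => by
      rw [congrArg Prod.fst (hψ p hp q hq), congrArg Prod.snd (hψ p hp q hq), Prod.fst_add, Prod.snd_add]
      abel) ⟨p10, hp10, by rw [hq10]; decide⟩
  refine no_pencil Mo Ff Fg Fk (fun v => ?_) hf1 hg1 hk1
  induction v using QuotientGroup.induction_on with
  | _ q =>
    rw [hf, hgf, hkf]
    exact two_eq_zero _

/-- The Frattini layer is trivial or of order two. -/
theorem layer_le_two (hrk : Cfsg.SectionalPRankLE 2 4 Y) (hg : Gen O P) : P = ⊥ ∨ Nat.card P = 2 := by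
  classical
  haveI := L.normalP
  by_cases hP : P = ⊥
  · exact Or.inl hP
  refine Or.inr ?_
  obtain ⟨N, -, ⟨hNn, hNP⟩, hNmax⟩ := Finite.exists_le_maximal
    (p := fun K : Subgroup Y => K.Normal ∧ K < P) (a := ⊥) ⟨inferInstance, bot_lt_iff_ne_bot.2 hP⟩
  have hmaxN : ∀ K : Subgroup Y, K.Normal → N ≤ K → K ≤ P → K = N ∨ K = P := fun K hK hNK hKP => by
    rcases hKP.eq_or_lt with h | h
    · exact Or.inr h
    · exact Or.inl (le_antisymm (hNmax ⟨hK, h⟩ hNK) hNK)
  by_cases hN : N = ⊥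
  · exact (bottom_two L hrk hP (fun K hK hKP => by
      rcases hmaxN K hK (hN ▸ bot_le) hKP with h | h
      · exact Or.inl (h.trans hN)
      · exact Or.inr h)).1
  exfalso
  haveI := hNn
  obtain ⟨N2, -, ⟨hN2n, hN2N⟩, hN2max⟩ := Finite.exists_le_maximal
    (p := fun K : Subgroup Y => K.Normal ∧ K < N) (a := ⊥) ⟨inferInstance, bot_lt_iff_ne_bot.2 hN⟩
  haveI := hN2n
  have hs := QuotientGroup.mk'_surjective N2
  have hN2P : N2 ≤ P := hN2N.le.trans hNP.le
  obtain ⟨π', L', hg'⟩ := quot L hg N2 hN2P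
  have hcN : (N.map (QuotientGroup.mk' N2)).comap (QuotientGroup.mk' N2) = N :=
    Subgroup.comap_map_eq_self (by rw [QuotientGroup.ker_mk']; exact hN2N.le)
  have hcP : (P.map (QuotientGroup.mk' N2)).comap (QuotientGroup.mk' N2) = P :=
    Subgroup.comap_map_eq_self (by rw [QuotientGroup.ker_mk']; exact hN2P)
  haveI : (N.map (QuotientGroup.mk' N2)).Normal := Subgroup.Normal.map inferInstance _ hs
  have hker : ∀ K : Subgroup (Y ⧸ N2), N2 ≤ K.comap (QuotientGroup.mk' N2) := fun K => by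
    conv_lhs => rw [← QuotientGroup.ker_mk' N2]
    exact MonoidHom.ker_le_comap _ _
  refine two_layers L' (CfsgLib.TwoGroups.SectionalTwo.sectional_quotient hrk N2) hg'
    (N.map (QuotientGroup.mk' N2)) (fun h => hN2N.not_ge ?_) (lt_of_le_of_ne (Subgroup.map_mono hNP.le)
      (fun h => hNP.ne (by rw [← hcN, h, hcP]))) (fun K hK hKN => ?_) (fun K hK hNK hKP => ?_)
  · rw [← hcN, h, MonoidHom.comap_bot, QuotientGroup.ker_mk']
  · haveI := hK
    have hle : K.comap (QuotientGroup.mk' N2) ≤ N := by rw [← hcN]; exact Subgroup.comap_mono hKN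
    rw [← Subgroup.map_comap_eq_self_of_surjective hs K]
    rcases hle.eq_or_lt with h | h
    · exact Or.inr (by rw [h])
    · left
      rw [le_antisymm (hN2max ⟨inferInstance, h⟩ (hker K)) (hker K), QuotientGroup.map_mk'_self]
  · haveI := hK
    rw [← Subgroup.map_comap_eq_self_of_surjective hs K]
    rcases hmaxN (K.comap (QuotientGroup.mk' N2)) inferInstance (by rw [← hcN]; exact Subgroup.comap_mono hNK)
      (by rw [← hcP]; exact Subgroup.comap_mono hKP) with h | h
    · exact Or.inl (by rw [h])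
    · exact Or.inr (by rw [h])

omit L in
/-- The group generated by two elements, the second normalizing the first cyclic group with index two. -/
theorem ext_two {G : Type u} [Group G] [Finite G] {a b : G} (hb : b ∉ Subgroup.zpowers a)
    (hb2 : b * b ∈ Subgroup.zpowers a) (hba : b * a * b⁻¹ = a⁻¹) :
    ∃ S : Subgroup G, a ∈ S ∧ b ∈ S ∧ Nat.card S = 2 * orderOf a ∧
      ∀ K : Subgroup G, a ∈ K → b ∈ K → S ≤ K := by
  classical
  set H := Subgroup.zpowers a
  have hconj : ∀ h ∈ H, b * h * b⁻¹ ∈ H := fun h hh => by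
    obtain ⟨i, rfl⟩ := Subgroup.mem_zpowers_iff.1 hh
    rw [← conj_zpow, hba]
    exact zpow_mem (inv_mem (Subgroup.mem_zpowers a)) i
  have hconj' : ∀ h ∈ H, b⁻¹ * h * b ∈ H := fun h hh => by
    have := mul_mem (mul_mem (inv_mem hb2) (hconj h hh)) hb2
    convert this using 1
    group
  let S : Subgroup G :=
    { carrier := {g | g ∈ H ∨ g * b ∈ H}
      one_mem' := Or.inl (one_mem H)
      mul_mem' := by
        rintro g1 g2 (h1 | h1) (h2 | h2)
        · exact Or.inl (mul_mem h1 h2)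
        · exact Or.inr (by rw [mul_assoc]; exact mul_mem h1 h2)
        · refine Or.inr ?_
          rw [show g1 * g2 * b = (g1 * b) * (b⁻¹ * g2 * b) by group]
          exact mul_mem h1 (hconj' g2 h2)
        · refine Or.inl ?_
          rw [show g1 * g2 = (g1 * b) * (b⁻¹ * (g2 * b) * b) * (b * b)⁻¹ by group]
          exact mul_mem (mul_mem h1 (hconj' _ h2)) (inv_mem hb2)
      inv_mem' := by
        rintro g (h | h)
        · exact Or.inl (inv_mem h)
        · refine Or.inr ?_
          rw [show g⁻¹ * b = (b * (g * b)⁻¹ * b⁻¹) * (b * b) by group]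
          exact mul_mem (hconj _ (inv_mem h)) hb2 }
  refine ⟨S, Or.inl (Subgroup.mem_zpowers a), Or.inr hb2, ?_, fun K ka kb g hg => ?_⟩
  · have hne : ∀ g, g ∈ H → ¬ g * b ∈ H := fun g h h' => hb (by simpa using mul_mem (inv_mem h) h')
    let e : S ≃ H ⊕ H :=
      { toFun := fun g => if h : (g : G) ∈ H then Sum.inl ⟨g, h⟩
          else Sum.inr ⟨(g : G) * b, g.2.resolve_left h⟩
        invFun := Sum.elim (fun h => ⟨h, Or.inl h.2⟩)
          (fun h => ⟨(h : G) * b⁻¹, Or.inr (by rw [inv_mul_cancel_right]; exact h.2)⟩)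
        left_inv := fun g => by
          dsimp only
          split_ifs with h
          · rfl
          · exact Subtype.ext (mul_inv_cancel_right _ b)
        right_inv := by
          rintro (h | h)
          · simp
          · have hn : ¬ (h : G) * b⁻¹ ∈ H := fun h' => hne _ h' (by rw [inv_mul_cancel_right]; exact h.2)
            dsimp only [Sum.elim_inr]
            rw [dif_neg hn]
            exact congrArg Sum.inr (Subtype.ext (inv_mul_cancel_right _ b)) }
    rw [Nat.card_congr e, Nat.card_sum, Nat.card_zpowers, two_mul]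
  · rcases hg with h | h
    · exact Subgroup.zpowers_le.2 ka h
    · have := mul_mem (Subgroup.zpowers_le.2 ka h) (inv_mem kb)
      rwa [mul_inv_cancel_right] at this

/-- The central product shape. -/
theorem structure_two (hrk : Cfsg.SectionalPRankLE 2 4 Y) (hg : Gen O P) (h2 : Nat.card P = 2) :
    Nat.card O = 32 ∧ ∃ A B : Subgroup O,
      Nonempty (A ≃* QuaternionGroup 2) ∧ Nonempty (B ≃* DihedralGroup 4) ∧
        (∀ a ∈ A, ∀ b ∈ B, a * b = b * a) ∧ A ⊔ B = ⊤ ∧ A ⊓ B = Subgroup.center O := by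
  classical
  obtain ⟨z, a, b, c, d, ⟨hz, hz1⟩, ⟨ha, hb, hc, hd⟩, -, ⟨hasq, hbsq, hcsq, hdsq⟩, ⟨hba, hdc⟩,
    ⟨hac, had, hbc, hbd⟩, hgen, hcen⟩ := basis L hrk hg h2
  refine ⟨by rw [L.card_eq hrk, h2], ?_⟩
  have hzz : z * z = 1 := (mem_two h2 hz hz1 (mul_mem hz hz)).resolve_right (fun h => hz1 (mul_eq_left.1 h))
  -- facts for either pair
  have pair : ∀ x y : Y, x * x = z → y * x * y⁻¹ = x⁻¹ →
      orderOf x = 4 ∧ y ∉ Subgroup.zpowers x := fun x y hx hyx => by
    haveI : Fact (Nat.Prime 2) := ⟨Nat.prime_two⟩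
    have h4 : orderOf x = 2 ^ 2 := by
      refine orderOf_eq_prime_pow (n := 1) ?_ ?_
      · rw [pow_one, pow_two, hx]; exact hz1
      · rw [show 2 ^ (1 + 1) = 2 + 2 by norm_num, pow_add, pow_two, hx, hzz]
    refine ⟨h4, fun h => hz1 ?_⟩
    obtain ⟨i, rfl⟩ := Subgroup.mem_zpowers_iff.1 h
    rw [(Commute.zpow_self x i).eq, mul_inv_cancel_right] at hyx
    rw [← hx]
    nth_rw 2 [hyx]
    rw [mul_inv_cancel]
  obtain ⟨oa, nb⟩ := pair a b hasq hba
  obtain ⟨oc, nd⟩ := pair c d hcsq hdc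
  let a' : O := ⟨a, ha⟩
  let b' : O := ⟨b, hb⟩
  let c' : O := ⟨c, hc⟩
  let d' : O := ⟨d, hd⟩
  have oa' : orderOf a' = 4 := by rw [Subgroup.orderOf_mk]; exact oa
  have oc' : orderOf c' = 4 := by rw [Subgroup.orderOf_mk]; exact oc
  have nb' : b' ∉ Subgroup.zpowers a' := fun h => nb (by
    obtain ⟨i, hi⟩ := Subgroup.mem_zpowers_iff.1 h
    exact ⟨i, congrArg Subtype.val hi⟩)
  have nd' : d' ∉ Subgroup.zpowers c' := fun h => nd (by
    obtain ⟨i, hi⟩ := Subgroup.mem_zpowers_iff.1 h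
    exact ⟨i, congrArg Subtype.val hi⟩)
  obtain ⟨A, aA, bA, hAc, hAmin⟩ := ext_two (G := O) nb'
    (by rw [show b' * b' = a' ^ 2 from Subtype.ext (by simp [a', b', pow_two, hasq, hbsq])]
        exact Subgroup.npow_mem_zpowers a' 2) (Subtype.ext hba)
  obtain ⟨B, cB, dB, hBc, hBmin⟩ := ext_two (G := O) nd'
    (by rw [show d' * d' = 1 from Subtype.ext hdsq]; exact one_mem _) (Subtype.ext hdc)
  rw [oa'] at hAc
  rw [oc'] at hBc
  have hcomm : ∀ x ∈ A, ∀ y ∈ B, x * y = y * x := by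
    have hle : A ≤ Subgroup.centralizer ({c', d'} : Set O) := by
      refine hAmin _ ?_ ?_ <;> refine Subgroup.mem_centralizer_iff.2 ?_ <;> rintro y (rfl | rfl) <;>
        refine Subtype.ext ?_
      · exact hac.symm
      · exact had.symm
      · exact hbc.symm
      · exact hbd.symm
    intro x hx y hy
    have hyc : B ≤ Subgroup.centralizer ({x} : Set O) := by
      refine hBmin _ ?_ ?_ <;> refine Subgroup.mem_centralizer_singleton_iff.2 ?_
      · exact Subgroup.mem_centralizer_iff.1 (hle hx) c' (Or.inl rfl)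
      · exact Subgroup.mem_centralizer_iff.1 (hle hx) d' (Or.inr rfl)
    exact (Subgroup.mem_centralizer_singleton_iff.1 (hyc hy)).symm
  have hzA : (⟨z, L.le hz⟩ : O) ∈ A := by
    rw [show (⟨z, L.le hz⟩ : O) = a' * a' from Subtype.ext hasq.symm]; exact mul_mem aA aA
  have hzB : (⟨z, L.le hz⟩ : O) ∈ B := by
    rw [show (⟨z, L.le hz⟩ : O) = c' * c' from Subtype.ext hcsq.symm]; exact mul_mem cB cB
  have hsup : A ⊔ B = ⊤ := by
    refine eq_top_iff.2 fun q _ => ?_
    have hle : O ≤ (A ⊔ B).map O.subtype :=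
      hgen _ ⟨a', Subgroup.mem_sup_left aA, rfl⟩ ⟨b', Subgroup.mem_sup_left bA, rfl⟩
        ⟨c', Subgroup.mem_sup_right cB, rfl⟩ ⟨d', Subgroup.mem_sup_right dB, rfl⟩
        ⟨_, Subgroup.mem_sup_left hzA, rfl⟩
    obtain ⟨q', hq', he⟩ := hle q.2
    rwa [← Subtype.ext he]
  refine ⟨A, B, ?_, ?_, hcomm, hsup, le_antisymm ?_ ?_⟩
  · refine CfsgLib.TwoGroups.CyclicMax.quaternion_iso (a := (⟨a', aA⟩ : A)) (b := ⟨b', bA⟩) two_ne_zero
      (by rw [Subgroup.orderOf_mk, oa']) hAc ?_ ?_ (Subtype.ext (Subtype.ext hba))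
    · intro h
      obtain ⟨i, hi⟩ := Subgroup.mem_zpowers_iff.1 h
      exact nb' ⟨i, congrArg Subtype.val hi⟩
    · exact Subtype.ext (Subtype.ext (by simp [a', b', pow_two, hasq, hbsq]))
  · refine CfsgLib.TwoGroups.CyclicMax.dihedral_iso (a := (⟨c', cB⟩ : B)) (b := ⟨d', dB⟩)
      (by rw [Subgroup.orderOf_mk, oc']) hBc ?_ (Subtype.ext (Subtype.ext hdsq)) (Subtype.ext (Subtype.ext hdc))
    intro h
    obtain ⟨i, hi⟩ := Subgroup.mem_zpowers_iff.1 h
    exact nd' ⟨i, congrArg Subtype.val hi⟩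
  · rintro x ⟨hxA, hxB⟩
    refine Subgroup.mem_center_iff.2 fun g => ?_
    have hle : A ⊔ B ≤ Subgroup.centralizer ({x} : Set O) := sup_le
      (fun y hy => Subgroup.mem_centralizer_singleton_iff.2 (hcomm y hy x hxB))
      (fun y hy => Subgroup.mem_centralizer_singleton_iff.2 (hcomm x hxA y hy).symm)
    exact Subgroup.mem_centralizer_singleton_iff.1 (hle (hsup ▸ Subgroup.mem_top g))
  · intro x hx
    have hxP := hcen x x.2 fun q hq => (congrArg Subtype.val (Subgroup.mem_center_iff.1 hx ⟨q, hq⟩)).symm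
    rcases mem_two h2 hz hz1 hxP with e | e
    · rw [show x = 1 from Subtype.ext e]; exact one_mem _
    · rw [show x = ⟨z, L.le hz⟩ from Subtype.ext e]; exact ⟨hzA, hzB⟩

end CfsgLib.Sectional.A5Radical
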