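import Mathlib
import Cfsg.Agent.Lib.PGroup.SubgroupsA8
import Cfsg.Agent.Lib.Sectional.OddCoreA8

/-!
# Subgroups of order 720 of the alternating group of degree eight

Each of them is the stabilizer of a pair of points, so any two are conjugate.
-/

set_option autoImplicit false
set_option linter.style.haveILetI false

namespace CfsgLib.Sectional.PairStab

open Equiv

/-- A subgroup of order `720` is not transitive on the eight points. -/
theorem not_transitive {K : Subgroup (Perm (Fin 8))} (h : Nat.card K = 720) :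
    ¬ MulAction.IsPretransitive K (Fin 8) := by
  intro hT
  haveI : Fact (Nat.Prime 5) := ⟨Nat.prime_five⟩
  obtain ⟨c0, hc0⟩ := exists_prime_orderOf_dvd_card' (G := K) 5 (by rw [h]; norm_num)
  set c : Perm (Fin 8) := (c0 : Perm (Fin 8))
  have hcord : orderOf c = 5 := by rw [Subgroup.orderOf_coe, hc0]
  obtain ⟨hcy, hc5⟩ := OddCoreA8.isCycle_of_five_le Nat.prime_five le_rfl hcord
  have hX : Fintype.card (Fin 8) = 8 := Fintype.card_fin 8
  have hprim := CfsgLib.PGroup.SubgroupsA8.primitive_of_five hX c0.2 hcy hc5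
  haveI := Perm.isPretransitive_of_isCycle_mem hcy c0.2
  have h4 : MulAction.IsMultiplyPreprimitive K (Fin 8) (2 + 2) := by
    refine hprim.isMultiplyPreprimitive (s := (c.supportᶜ : Set (Fin 8))) ?_
      (by rw [Nat.card_eq_fintype_card]; omega) ?_
    · rw [← Finset.coe_compl, Set.ncard_coe_finset, Finset.card_compl, hc5, hX]
    · refine MulAction.IsPreprimitive.of_prime_card ?_
      classical
      convert! Nat.prime_five
      rw [Nat.card_eq_fintype_card, Fintype.card_subtype, ← hc5]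
      apply congr_arg
      ext y
      simp [SubMulAction.mem_ofFixingSubgroup_iff]
  haveI : MulAction.IsMultiplyPretransitive K (Fin 8) (2 + 2) :=
    MulAction.IsMultiplyPreprimitive.isMultiplyPretransitive ..
  haveI : Nonempty (Fin (2 + 2) ↪ Fin 8) :=
    Function.Embedding.nonempty_of_card_le (by rw [Fintype.card_fin]; omega)
  have := @CfsgLib.PGroup.SubgroupsA8.dvd_card_of_pretransitive (Fin (2 + 2) ↪ Fin 8) _ _ K _ _
    ‹MulAction.IsMultiplyPretransitive K (Fin 8) (2 + 2)›
  rw [Nat.card_eq_fintype_card, Fintype.card_embedding_eq, Fintype.card_fin, Fintype.card_fin, h] at this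
  revert this
  decide

/-- A subgroup of order `720` of the alternating group fixes a pair of points. -/
theorem exists_pair {K : Subgroup (Perm (Fin 8))} (hK : K ≤ alternatingGroup (Fin 8))
    (h : Nat.card K = 720) :
    ∃ i j : Fin 8, i ≠ j ∧ ∀ g ∈ K, (g i = i ∨ g i = j) ∧ (g j = i ∨ g j = j) := by
  classical
  haveI : Fact (Nat.Prime 5) := ⟨Nat.prime_five⟩
  obtain ⟨c0, hc0⟩ := exists_prime_orderOf_dvd_card' (G := K) 5 (by rw [h]; norm_num)
  set c : Perm (Fin 8) := (c0 : Perm (Fin 8)) with hc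
  have hcord : orderOf c = 5 := by rw [Subgroup.orderOf_coe, hc0]
  obtain ⟨hcy, hc5⟩ := OddCoreA8.isCycle_of_five_le Nat.prime_five le_rfl hcord
  obtain ⟨a, ha⟩ := Finset.card_pos.1 (show 0 < c.support.card by omega)
  let O : Finset (Fin 8) := Finset.univ.filter (fun x => x ∈ MulAction.orbit K a)
  have hmem : ∀ x, x ∈ O ↔ x ∈ MulAction.orbit K a := fun x => by simp [O]
  have hinv : ∀ g ∈ K, ∀ x, g x ∈ O ↔ x ∈ O := fun g hg x => by
    rw [hmem, hmem]
    exact ⟨fun hx => by
      have h1 := MulAction.mem_orbit_of_mem_orbit (⟨g, hg⟩⁻¹ : K) hx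
      have h2 : (⟨g, hg⟩⁻¹ : K) • g x = x := inv_smul_smul (⟨g, hg⟩ : K) x
      rwa [h2] at h1, fun hx => MulAction.mem_orbit_of_mem_orbit (⟨g, hg⟩ : K) hx⟩
  have hsupp : c.support ⊆ O := fun x hx => by
    rw [hmem]
    obtain ⟨i, hi⟩ := hcy.exists_zpow_eq (Perm.mem_support.1 ha) (Perm.mem_support.1 hx)
    exact ⟨c0 ^ i, hi⟩
  have hOge : 5 ≤ O.card := hc5 ▸ Finset.card_le_card hsupp
  have hO8 : O.card ≠ 8 := fun h8 => not_transitive h ⟨fun x y => by
    have : ∀ z, z ∈ MulAction.orbit K a := fun z => (hmem z).1 (by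
      rw [Finset.eq_univ_of_card O (by rw [h8, Fintype.card_fin])]; exact Finset.mem_univ z)
    obtain ⟨g, hg⟩ := this x
    obtain ⟨g', hg'⟩ := this y
    exact ⟨g' * g⁻¹, by rw [← hg, mul_smul, inv_smul_smul]; exact hg'⟩⟩
  have hOd : O.card ∣ 720 := by
    have e : O.card = Nat.card (MulAction.orbit K a) := by
      rw [Nat.card_eq_fintype_card, Fintype.card_subtype]
    rw [e, Nat.card_congr (MulAction.orbitEquivQuotientStabilizer K a), ← h]
    exact Subgroup.card_quotient_dvd_card _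
  have hOle : O.card ≤ 8 := le_trans O.card_le_univ (by rw [Fintype.card_fin])
  have hcases : O.card = 5 ∨ O.card = 6 := by
    interval_cases hO : O.card <;> first | omega | (exact absurd hOd (by norm_num))
  rcases hcases with h5 | h6
  · exfalso
    let r : K →* Perm {x : Fin 8 // x ∈ O} :=
      { toFun := fun g => (g : Perm (Fin 8)).subtypePerm (hinv g g.2)
        map_one' := Equiv.ext fun _ => rfl
        map_mul' := fun _ _ => Equiv.ext fun _ => rfl }
    have hn : Fintype.card {x : Fin 8 // x ∉ O} = 3 := by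
      rw [Fintype.card_subtype_compl, Fintype.card_fin, Fintype.card_coe, h5]
    let w : r.ker →* Perm {x : Fin 8 // x ∉ O} :=
      { toFun := fun g => ((g : K) : Perm (Fin 8)).subtypePerm fun x => not_congr (hinv _ (g : K).2 x)
        map_one' := Equiv.ext fun _ => rfl
        map_mul' := fun _ _ => Equiv.ext fun _ => rfl }
    have hfix : ∀ (g : r.ker) (x : Fin 8), x ∈ O → ((g : K) : Perm (Fin 8)) x = x := fun g x hx =>
      (congrArg Subtype.val (DFunLike.congr_fun (MonoidHom.mem_ker.1 g.2) ⟨x, hx⟩) :)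
    have hwinj : Function.Injective w := fun g k e => Subtype.ext (Subtype.ext (Equiv.ext fun x => by
      by_cases hx : x ∈ O
      · rw [hfix g x hx, hfix k x hx]
      · exact congrArg Subtype.val (DFunLike.congr_fun e ⟨x, hx⟩)))
    have heven : w.range ≤ alternatingGroup {x : Fin 8 // x ∉ O} := by
      rintro _ ⟨g, rfl⟩
      rw [Perm.mem_alternatingGroup]
      show Perm.sign (((g : K) : Perm (Fin 8)).subtypePerm fun x => not_congr (hinv _ (g : K).2 x)) = 1
      have h1 : Perm.sign ((g : K) : Perm (Fin 8)) = 1 := Perm.mem_alternatingGroup.mp (hK (g : K).2)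
      rw [← h1]
      convert Perm.sign_subtypePerm ((g : K) : Perm (Fin 8))
        (fun x => not_congr (hinv _ (g : K).2 x)) (fun x hx hxO => hx (hfix g x hxO))
    have hA3 : Nat.card (alternatingGroup {x : Fin 8 // x ∉ O}) = 3 := by
      haveI : Nontrivial {x : Fin 8 // x ∉ O} := Fintype.one_lt_card_iff_nontrivial.1 (by omega)
      rw [Nat.card_eq_fintype_card, card_alternatingGroup, hn]; rfl
    have h1 : Nat.card r.ker ≤ 3 := hA3 ▸ (le_of_eq (Nat.card_congr (MonoidHom.ofInjective hwinj).toEquiv)).trans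
      (Subgroup.card_le_of_le heven)
    have h2 : Nat.card r.range ≤ 120 := by
      refine le_trans r.range.card_le_card_group ?_
      rw [Nat.card_perm, Nat.card_eq_fintype_card, Fintype.card_coe, h5]; rfl
    have h3 := Subgroup.card_mul_index r.ker
    rw [Subgroup.index_ker, h] at h3
    have := Nat.mul_le_mul h1 h2
    omega
  · obtain ⟨i, j, hij, he⟩ := Finset.card_eq_two.1
      (show Oᶜ.card = 2 by rw [Finset.card_compl, Fintype.card_fin, h6])
    refine ⟨i, j, hij, fun g hg => ?_⟩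
    have hm : ∀ x, x ∈ ({i, j} : Finset (Fin 8)) → g x = i ∨ g x = j := fun x hx => by
      rw [← he, Finset.mem_compl] at hx
      have : g x ∈ ({i, j} : Finset (Fin 8)) := by
        rw [← he, Finset.mem_compl]; exact fun hgx => hx ((hinv g hg x).1 hgx)
      simpa using this
    exact ⟨hm i (by simp), hm j (by simp)⟩

/-- The stabilizer of a pair in the alternating group. -/
def pairStab (i j : Fin 8) : Subgroup (Perm (Fin 8)) where
  carrier := {g | g ∈ alternatingGroup (Fin 8) ∧ (g i = i ∧ g j = j ∨ g i = j ∧ g j = i)}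
  one_mem' := ⟨one_mem _, Or.inl ⟨rfl, rfl⟩⟩
  mul_mem' := by
    rintro a b ⟨ha, ha'⟩ ⟨hb, hb'⟩
    refine ⟨mul_mem ha hb, ?_⟩
    simp only [Perm.mul_apply]
    rcases hb' with ⟨h1, h2⟩ | ⟨h1, h2⟩ <;> rw [h1, h2]
    · exact ha'
    · rcases ha' with ⟨h3, h4⟩ | ⟨h3, h4⟩
      · exact Or.inr ⟨h4, h3⟩
      · exact Or.inl ⟨h4, h3⟩
  inv_mem' := by
    rintro a ⟨ha, ha'⟩
    refine ⟨inv_mem ha, ?_⟩
    simp only [Perm.inv_def, Equiv.symm_apply_eq]
    rcases ha' with ⟨h3, h4⟩ | ⟨h3, h4⟩
    · exact Or.inl ⟨h3.symm, h4.symm⟩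
    · exact Or.inr ⟨h4.symm, h3.symm⟩

theorem card_pairStab_le {i j : Fin 8} (hij : i ≠ j) : Nat.card (pairStab i j) ≤ 720 := by
  classical
  set P : Finset (Fin 8) := {i, j} with hP
  have hP2 : P.card = 2 := Finset.card_pair hij
  have hinv : ∀ (g : pairStab i j) (x : Fin 8), (g : Perm (Fin 8)) x ∉ P ↔ x ∉ P := fun g x => by
    simp only [P, Finset.mem_insert, Finset.mem_singleton]
    obtain ⟨g, -, hg'⟩ := g
    generalize hy : g x = t
    rcases hg' with ⟨h1, h2⟩ | ⟨h1, h2⟩
    · have e1 : t = i ↔ x = i := by rw [← hy]; exact ⟨fun e => g.injective (e.trans h1.symm), fun e => e ▸ h1⟩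
      have e2 : t = j ↔ x = j := by rw [← hy]; exact ⟨fun e => g.injective (e.trans h2.symm), fun e => e ▸ h2⟩
      rw [e1, e2]
    · have e1 : t = i ↔ x = j := by rw [← hy]; exact ⟨fun e => g.injective (e.trans h2.symm), fun e => e ▸ h2⟩
      have e2 : t = j ↔ x = i := by rw [← hy]; exact ⟨fun e => g.injective (e.trans h1.symm), fun e => e ▸ h1⟩
      rw [e1, e2, or_comm]
  let r : pairStab i j →* Perm {x : Fin 8 // x ∉ P} :=
    { toFun := fun g => (g : Perm (Fin 8)).subtypePerm (hinv g)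
      map_one' := Equiv.ext fun _ => rfl
      map_mul' := fun _ _ => Equiv.ext fun _ => rfl }
  have hinj : Function.Injective r := by
    rw [← MonoidHom.ker_eq_bot_iff, Subgroup.eq_bot_iff_forall]
    intro g hg
    have hfix : ∀ x, x ∉ P → (g : Perm (Fin 8)) x = x := fun x hx =>
      (congrArg Subtype.val (DFunLike.congr_fun (MonoidHom.mem_ker.1 hg) ⟨x, hx⟩) :)
    rcases g.2.2 with ⟨h1, h2⟩ | ⟨h1, h2⟩
    · refine Subtype.ext (Equiv.ext fun x => ?_)
      by_cases hx : x ∈ P
      · rcases Finset.mem_insert.1 hx with rfl | hx'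
        · exact h1
        · rw [Finset.mem_singleton.1 hx']; exact h2
      · exact hfix x hx
    · exfalso
      have : (g : Perm (Fin 8)) = swap i j := Equiv.ext fun x => by
        by_cases hx : x ∈ P
        · rcases Finset.mem_insert.1 hx with rfl | hx'
          · rw [h1, swap_apply_left]
          · rw [Finset.mem_singleton.1 hx', h2, swap_apply_right]
        · simp only [P, Finset.mem_insert, Finset.mem_singleton, not_or] at hx
          rw [hfix x (by simp [P, hx.1, hx.2]), swap_apply_of_ne_of_ne hx.1 hx.2]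
      have hev := Perm.mem_alternatingGroup.1 g.2.1
      rw [this, Perm.sign_swap hij] at hev
      exact absurd hev (by decide)
  refine le_trans (Nat.card_le_card_of_injective r hinj) ?_
  rw [Nat.card_perm, Nat.card_eq_fintype_card, Fintype.card_subtype_compl, Fintype.card_fin,
    Fintype.card_coe, hP2]
  rfl

theorem eq_pairStab {K : Subgroup (Perm (Fin 8))} (hK : K ≤ alternatingGroup (Fin 8))
    (h : Nat.card K = 720) : ∃ i j : Fin 8, i ≠ j ∧ K = pairStab i j := by
  obtain ⟨i, j, hij, hp⟩ := exists_pair hK h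
  refine ⟨i, j, hij, Subgroup.eq_of_le_of_card_ge (fun g hg => ⟨hK hg, ?_⟩)
    (by rw [h]; exact card_pairStab_le hij)⟩
  obtain ⟨h1, h2⟩ := hp g hg
  rcases h1 with h1 | h1 <;> rcases h2 with h2 | h2
  · exact absurd (g.injective (h1.trans h2.symm)) hij
  · exact Or.inl ⟨h1, h2⟩
  · exact Or.inr ⟨h1, h2⟩
  · exact absurd (g.injective (h1.trans h2.symm)) hij

/-- Two subgroups of order `720` of the alternating group are conjugate in it. -/
theorem exists_conj {K K' : Subgroup (Perm (Fin 8))} (hK : K ≤ alternatingGroup (Fin 8))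
    (hK' : K' ≤ alternatingGroup (Fin 8)) (h : Nat.card K = 720) (h' : Nat.card K' = 720) :
    ∃ σ ∈ alternatingGroup (Fin 8), ∀ g ∈ K', σ * g * σ⁻¹ ∈ K := by
  classical
  obtain ⟨i, j, hij, rfl⟩ := eq_pairStab hK h
  obtain ⟨i', j', hij', rfl⟩ := eq_pairStab hK' h'
  obtain ⟨σ, hσi, hσj⟩ : ∃ σ : Perm (Fin 8), σ i' = i ∧ σ j' = j := by
    refine ⟨swap (swap i' i j') j * swap i' i, ?_, ?_⟩
    · rw [Perm.mul_apply, swap_apply_left]
      refine swap_apply_of_ne_of_ne (fun e => hij' ?_) hij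
      exact (swap i' i).injective ((swap_apply_left i' i).trans e)
    · rw [Perm.mul_apply, swap_apply_left]
  obtain ⟨τ, hτ, hτpair⟩ : ∃ τ ∈ alternatingGroup (Fin 8),
      τ i' = i ∧ τ j' = j ∨ τ i' = j ∧ τ j' = i := by
    rcases Int.units_eq_one_or (Perm.sign σ) with hs | hs
    · exact ⟨σ, Perm.mem_alternatingGroup.2 hs, Or.inl ⟨hσi, hσj⟩⟩
    · refine ⟨σ * swap i' j', Perm.mem_alternatingGroup.2 ?_, Or.inr ⟨?_, ?_⟩⟩
      · rw [map_mul, hs, Perm.sign_swap hij']; decide
      · rw [Perm.mul_apply, swap_apply_left, hσj]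
      · rw [Perm.mul_apply, swap_apply_right, hσi]
  refine ⟨τ, hτ, fun g hg => ⟨mul_mem (mul_mem hτ hg.1) (inv_mem hτ), ?_⟩⟩
  simp only [Perm.mul_apply]
  rcases hτpair with ⟨e1, e2⟩ | ⟨e1, e2⟩
  · have f1 : τ⁻¹ i = i' := Equiv.symm_apply_eq _ |>.2 e1.symm
    have f2 : τ⁻¹ j = j' := Equiv.symm_apply_eq _ |>.2 e2.symm
    rw [f1, f2]
    rcases hg.2 with ⟨g1, g2⟩ | ⟨g1, g2⟩ <;> rw [g1, g2, e1, e2] <;> tauto
  · have f1 : τ⁻¹ i = j' := Equiv.symm_apply_eq _ |>.2 e2.symm
    have f2 : τ⁻¹ j = i' := Equiv.symm_apply_eq _ |>.2 e1.symm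
    rw [f1, f2]
    rcases hg.2 with ⟨g1, g2⟩ | ⟨g1, g2⟩ <;> rw [g1, g2, e1, e2] <;> tauto

end CfsgLib.Sectional.PairStab
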