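import Mathlib
import Cfsg.Agent.Lib.Sporadic.LinearEight
import Cfsg.Agent.Lib.Sectional.PairStab

/-!
# The symplectic group of dimension four over two elements

It is the stabilizer of an alternating form, has order `720`, and every subgroup of that order of
`GL₄(2)` is conjugate to it.
-/

set_option autoImplicit false
set_option maxRecDepth 20000
set_option linter.style.haveILetI false

namespace CfsgLib.Sectional.SpFourTwo

open Matrix

/-- Square matrices of size four over two elements. -/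
abbrev M4 := Matrix (Fin 4) (Fin 4) (ZMod 2)

/-- A matrix from a sixteen-bit code. -/
def ofCode (n : ℕ) : M4 := Matrix.of fun i j => if n.testBit (4 * i.val + j.val) then 1 else 0

/-- The standard alternating form. -/
def J : M4 := !![0, 0, 1, 0; 0, 0, 0, 1; 1, 0, 0, 0; 0, 1, 0, 0]

/-- An alternating matrix from its six entries. -/
def alt (p q r s t u : ZMod 2) : M4 := !![0, p, q, r; p, 0, s, t; q, s, 0, u; r, t, u, 0]

/-- Representatives moving the form to each nondegenerate alternating form, with their inverses. -/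
def wit : List (ℕ × ℕ) :=
  [(33825, 33825), (33827, 33827), (33833, 33833), (33841, 33841), (34337, 34337), (33835, 33835),
   (33842, 33811), (34339, 34339), (33845, 33909), (34345, 34345), (33811, 33842), (34353, 34609),
   (34369, 33377), (33846, 33879), (34347, 34347), (33810, 33810), (34354, 34067), (33815, 33906),
   (34359, 33653), (34375, 33381), (34361, 36793), (34377, 33385), (34323, 34610), (34385, 33649),
   (33814, 33874), (34322, 34066), (34388, 33107), (34383, 33389)]

/-- The forms reached by the representatives. -/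
def forms : Finset M4 := (wit.map fun c => ofCode c.1 * J * (ofCode c.1)ᵀ).toFinset

theorem wit_ok : (∀ c ∈ wit, ofCode c.1 * ofCode c.2 = 1 ∧ ofCode c.2 * ofCode c.1 = 1) ∧
    forms.card = 28 ∧ J = alt 0 1 0 0 1 0 := by
  decide +kernel

theorem alt_cases : ∀ p q r s t u : ZMod 2,
    alt p q r s t u ∈ forms ∨ ∃ v : Fin 4 → ZMod 2, v ≠ 0 ∧ alt p q r s t u *ᵥ v = 0 := by
  decide +kernel

theorem conj_alt (g : M4) (p q r s t u : ZMod 2) : ∃ p' q' r' s' t' u' : ZMod 2,
    g * alt p q r s t u * gᵀ = alt p' q' r' s' t' u' := by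
  set B := g * alt p q r s t u * gᵀ with hB
  have hsym : Bᵀ = B := by
    have e : (alt p q r s t u)ᵀ = alt p q r s t u := by
      ext i j
      fin_cases i <;> fin_cases j <;> rfl
    rw [hB, Matrix.transpose_mul, Matrix.transpose_mul, Matrix.transpose_transpose, e, Matrix.mul_assoc]
  have hdiag : ∀ i, B i i = 0 := by
    intro i
    rw [hB, Matrix.mul_apply]
    simp only [Matrix.mul_apply, Matrix.transpose_apply, Fin.sum_univ_four]
    have h2 : ∀ x : ZMod 2, x + x = 0 := by decide
    simp only [alt, Matrix.of_apply, Matrix.cons_val', Matrix.cons_val_zero, Matrix.cons_val_one,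
      Matrix.cons_val, Matrix.empty_val', Matrix.cons_val_fin_one, mul_zero, add_zero, zero_add]
    linear_combination h2 (g i 0 * p * g i 1) + h2 (g i 0 * q * g i 2) + h2 (g i 0 * r * g i 3) +
      h2 (g i 1 * s * g i 2) + h2 (g i 1 * t * g i 3) + h2 (g i 2 * u * g i 3)
  have hs : ∀ i j, B i j = B j i := fun i j => congrFun (congrFun hsym j) i
  refine ⟨B 0 1, B 0 2, B 0 3, B 1 2, B 1 3, B 2 3, ?_⟩
  ext i j
  fin_cases i <;> fin_cases j <;> first | exact hdiag _ | rfl | exact hs _ _

/-- Congruence action on matrices. -/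
def congr : GL (Fin 4) (ZMod 2) →* Equiv.Perm M4 where
  toFun g :=
    { toFun := fun A => g.1 * A * g.1ᵀ
      invFun := fun A => (g⁻¹).1 * A * (g⁻¹).1ᵀ
      left_inv := fun A => by
        simp only [← Matrix.mul_assoc, Units.inv_mul, Matrix.one_mul]
        rw [Matrix.mul_assoc A, ← Matrix.transpose_mul, Units.inv_mul, Matrix.transpose_one, Matrix.mul_one]
      right_inv := fun A => by
        simp only [← Matrix.mul_assoc, Units.mul_inv, Matrix.one_mul]
        rw [Matrix.mul_assoc A, ← Matrix.transpose_mul, Units.mul_inv, Matrix.transpose_one, Matrix.mul_one] }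
  map_one' := Equiv.ext fun A => by simp
  map_mul' g k := Equiv.ext fun A => by
    simp [Matrix.transpose_mul, Matrix.mul_assoc]

/-- The symplectic group. -/
def sp : Subgroup (GL (Fin 4) (ZMod 2)) :=
  (MulAction.stabilizer (Equiv.Perm M4) J).comap congr

theorem mem_sp {g : GL (Fin 4) (ZMod 2)} : g ∈ sp ↔ g.1 * J * g.1ᵀ = J := Iff.rfl

theorem card_gl : Nat.card (GL (Fin 4) (ZMod 2)) = 20160 := by
  rw [Matrix.card_GL_field, ZMod.card]; decide +kernel

/-- Matrices as forms, with the congruence action. -/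
@[ext] structure Form where
  /-- the matrix -/
  mat : M4
deriving DecidableEq

/-- The congruence action on forms. -/
instance formAction : MulAction (GL (Fin 4) (ZMod 2)) Form where
  smul g A := ⟨congr g A.mat⟩
  one_smul A := by
    refine Form.ext ?_
    show congr 1 A.mat = A.mat
    rw [map_one]; rfl
  mul_smul g k A := by
    refine Form.ext ?_
    show congr (g * k) A.mat = congr g (congr k A.mat)
    rw [map_mul]; rfl

theorem card_sp : Nat.card sp = 720 := by
  have horb : MulAction.orbit (GL (Fin 4) (ZMod 2)) (Form.mk J) = (forms.image Form.mk : Set Form) := by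
    ext A
    rw [Finset.mem_coe, Finset.mem_image]
    constructor
    · rintro ⟨g, rfl⟩
      refine ⟨g.1 * J * g.1ᵀ, ?_, rfl⟩
      obtain ⟨p, q, r, s, t, u, e⟩ := conj_alt g.1 0 1 0 0 1 0
      rw [← wit_ok.2.2] at e
      rw [e]
      refine (alt_cases p q r s t u).resolve_right ?_
      rintro ⟨v, hv, hv0⟩
      rw [← e] at hv0
      have h1 := congrArg (fun w => (g⁻¹).1ᵀ *ᵥ (J *ᵥ ((g⁻¹).1 *ᵥ w))) hv0
      simp only [Matrix.mulVec_zero, Matrix.mulVec_mulVec] at h1
      have hJ : J * J = 1 := by decide +kernel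
      rw [show (g⁻¹).1ᵀ * (J * ((g⁻¹).1 * (g.1 * J * g.1ᵀ))) = (g⁻¹).1ᵀ * g.1ᵀ by
        rw [← Matrix.mul_assoc (g⁻¹).1, ← Matrix.mul_assoc (g⁻¹).1, Units.inv_mul, Matrix.one_mul,
          ← Matrix.mul_assoc J J, hJ, Matrix.one_mul],
        ← Matrix.transpose_mul, Units.mul_inv, Matrix.transpose_one, Matrix.one_mulVec] at h1
      exact hv h1
    · rintro ⟨B, hB, rfl⟩
      rw [forms, List.mem_toFinset, List.mem_map] at hB
      obtain ⟨c, hc, rfl⟩ := hB
      exact ⟨⟨ofCode c.1, ofCode c.2, (wit_ok.1 c hc).1, (wit_ok.1 c hc).2⟩, rfl⟩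
  have h := MulAction.index_stabilizer (GL (Fin 4) (ZMod 2)) (Form.mk J)
  rw [horb, Set.ncard_coe_finset, Finset.card_image_of_injective _ (fun _ _ e => congrArg Form.mat e),
    wit_ok.2.1] at h
  have hmul := (MulAction.stabilizer (GL (Fin 4) (ZMod 2)) (Form.mk J)).card_mul_index
  rw [h, card_gl] at hmul
  have e : MulAction.stabilizer (GL (Fin 4) (ZMod 2)) (Form.mk J) = sp := by
    ext g
    exact ⟨fun hg => congrArg Form.mat hg, fun hg => Form.ext hg⟩
  rw [e] at hmul
  omega

theorem exists_conj {H : Subgroup (GL (Fin 4) (ZMod 2))} (hH : Nat.card H = 720) :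
    ∃ g, ∀ x ∈ sp, g * x * g⁻¹ ∈ H := by
  obtain ⟨e⟩ := CfsgLib.Sporadic.LinearEight.gl_four_two (F := ZMod 2) (ZMod.card 2)
  let f : GL (Fin 4) (ZMod 2) →* Equiv.Perm (Fin 8) :=
    (alternatingGroup (Fin 8)).subtype.comp e.toMonoidHom
  have hf : Function.Injective f := Subtype.val_injective.comp e.injective
  have hle : ∀ K : Subgroup (GL (Fin 4) (ZMod 2)), K.map f ≤ alternatingGroup (Fin 8) := by
    rintro K _ ⟨g, -, rfl⟩
    exact (e g).2
  obtain ⟨σ, hσ, hc⟩ := PairStab.exists_conj (hle H) (hle sp)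
    (by rw [Subgroup.card_map_of_injective hf, hH]) (by rw [Subgroup.card_map_of_injective hf, card_sp])
  refine ⟨e.symm ⟨σ, hσ⟩, fun x hx => ?_⟩
  obtain ⟨y, hy, hy'⟩ := hc _ ⟨x, hx, rfl⟩
  have : y = e.symm ⟨σ, hσ⟩ * x * (e.symm ⟨σ, hσ⟩)⁻¹ := by
    refine hf ?_
    rw [hy', map_mul, map_mul, map_inv]
    simp [f]
  rwa [this] at hy

/-- The unipotent radical of the stabilizer of the first Lagrangian. -/
def U (a b c : ZMod 2) : M4 := !![1, 0, a, b; 0, 1, b, c; 0, 0, 1, 0; 0, 0, 0, 1]

/-- Codes of elements of order dividing three centralizing `U a b c`. -/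
def dcode (a b c : ZMod 2) : ℕ × ℕ :=
  if (a, b, c) = (0, 0, 1) then (34084, 33061)
  else if (a, b, c) = (1, 0, 0) then (42113, 9377)
  else if (a, b, c) = (1, 1, 1) then (46886, 62245)
  else (33825, 33825)

theorem U_mul : ∀ a b c a' b' c' : ZMod 2,
    U a b c * U a' b' c' = U (a + a') (b + b') (c + c') := by decide +kernel

theorem U_zero : U 0 0 0 = 1 := by decide +kernel

theorem U_inj : ∀ a b c a' b' c' : ZMod 2, U a b c = U a' b' c' → a = a' ∧ b = b' ∧ c = c' := by
  decide +kernel

theorem U_form : ∀ a b c : ZMod 2, U a b c * J * (U a b c)ᵀ = J := by decide +kernel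

theorem J_form : J * J * Jᵀ = J ∧ J * J = 1 := by decide +kernel

theorem U_low : ∀ (a b c : ZMod 2) (v : Fin 4 → ZMod 2),
    (U a b c *ᵥ v) 2 = v 2 ∧ (U a b c *ᵥ v) 3 = v 3 := by decide +kernel

theorem d_inv : ∀ a b c : ZMod 2, ofCode (dcode a b c).1 * ofCode (dcode a b c).2 = 1 ∧
    ofCode (dcode a b c).2 * ofCode (dcode a b c).1 = 1 := by decide +kernel

theorem d_form : ∀ a b c : ZMod 2,
    ofCode (dcode a b c).1 * J * (ofCode (dcode a b c).1)ᵀ = J ∧
      ofCode (dcode a b c).1 * ofCode (dcode a b c).1 * ofCode (dcode a b c).1 = 1 ∧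
      ofCode (dcode a b c).1 * U a b c = U a b c * ofCode (dcode a b c).1 := by decide +kernel

theorem d_fixed : ∀ (a b c : ZMod 2) (v : Fin 4 → ZMod 2), (a, b, c) ≠ (0, 0, 0) →
    U a b c *ᵥ v = v → ofCode (dcode a b c).1 *ᵥ v = v → v 2 = 0 ∧ v 3 = 0 := by decide +kernel

theorem U_J_fixed : ∀ v : Fin 4 → ZMod 2,
    U 1 0 0 *ᵥ v = v → U 0 0 1 *ᵥ v = v → J *ᵥ v = v → v = 0 := by decide +kernel

/-- The elements `U a b c` of the symplectic group. -/
def uGL (a b c : ZMod 2) : GL (Fin 4) (ZMod 2) :=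
  ⟨U a b c, U a b c,
    by rw [U_mul, show ∀ x : ZMod 2, x + x = 0 by decide, show ∀ x : ZMod 2, x + x = 0 by decide,
      show ∀ x : ZMod 2, x + x = 0 by decide, U_zero],
    by rw [U_mul, show ∀ x : ZMod 2, x + x = 0 by decide, show ∀ x : ZMod 2, x + x = 0 by decide,
      show ∀ x : ZMod 2, x + x = 0 by decide, U_zero]⟩

/-- The form as an element of the symplectic group. -/
def jGL : GL (Fin 4) (ZMod 2) := ⟨J, J, J_form.2, J_form.2⟩

theorem uGL_mem (a b c : ZMod 2) : uGL a b c ∈ sp := U_form a b c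

theorem jGL_mem : jGL ∈ sp := J_form.1

/-- The symplectic group fixes no nonzero vector. -/
theorem no_fixed {v : Fin 4 → ZMod 2} (h : ∀ g ∈ sp, g.1 *ᵥ v = v) : v = 0 :=
  U_J_fixed v (h _ (uGL_mem 1 0 0)) (h _ (uGL_mem 0 0 1)) (h _ jGL_mem)

/-- The element of order dividing three centralizing `uGL a b c`. -/
def dGL (a b c : ZMod 2) : GL (Fin 4) (ZMod 2) :=
  ⟨ofCode (dcode a b c).1, ofCode (dcode a b c).2, (d_inv a b c).1, (d_inv a b c).2⟩

end CfsgLib.Sectional.SpFourTwo
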