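import Mathlib
import Cfsg.Prelude.Def_CaseTheorems
import Cfsg.Agent.Lib.Sectional.SpFourTwo

/-!
# A section of order thirty-two

A group inducing the symplectic group on a section of order sixteen of a normal two-subgroup has an
elementary abelian section of order thirty-two, even if the extension does not split.
-/

set_option autoImplicit false
set_option linter.style.haveILetI false

namespace CfsgLib.Sectional.RankFive

open Matrix SpFourTwo

universe u

variable {X : Type u} [Group X]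

theorem add_self_zero (v : Fin 4 → ZMod 2) : v + v = 0 := by
  funext i
  exact (show ∀ x : ZMod 2, x + x = 0 by decide) _

/-- The data of an action on a section of order sixteen. -/
structure Data (O : Subgroup X) (ρ : X →* GL (Fin 4) (ZMod 2)) (e : X → Fin 4 → ZMod 2) : Prop where
  normal : O.Normal
  two : IsPGroup 2 O
  ker : ∀ g, ρ g = 1 ↔ g ∈ O
  add : ∀ p ∈ O, ∀ q ∈ O, e (p * q) = e p + e q
  act : ∀ g, ∀ q ∈ O, e (g * q * g⁻¹) = (ρ g).1 *ᵥ e q
  surj : ∀ v, ∃ q ∈ O, e q = v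
  range : ∀ s ∈ sp, ∃ g, ρ g = s

variable {O : Subgroup X} {ρ : X →* GL (Fin 4) (ZMod 2)} {e : X → Fin 4 → ZMod 2} (D : Data O ρ e)
include D

theorem e_one : e 1 = 0 := by
  have h := D.add 1 (one_mem _) 1 (one_mem _)
  rw [one_mul, add_self_zero] at h
  exact h

theorem e_inv {q : X} (hq : q ∈ O) : e q⁻¹ = e q := by
  have h := D.add q hq q⁻¹ (inv_mem hq)
  rw [mul_inv_cancel, e_one D] at h
  calc e q⁻¹ = (e q + e q) + e q⁻¹ := by rw [add_self_zero, zero_add]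
    _ = e q := by rw [add_assoc, ← h, add_zero]

/-- The square of every lift of `U a b c` lies in the first Lagrangian modulo the kernel. -/
theorem sq_low {a b c : ZMod 2} (hne : (a, b, c) ≠ (0, 0, 0)) {w : X}
    (hw : (ρ w).1 = U a b c) : e (w ^ 2) 2 = 0 ∧ e (w ^ 2) 3 = 0 := by
  haveI := D.normal
  obtain ⟨hform, hcube, hcomm⟩ := d_form a b c
  obtain ⟨y0, hy0⟩ := D.range (dGL a b c) (mem_sp.2 hform)
  have hd3 : dGL a b c ^ 3 = 1 := Units.ext (by
    rw [Units.val_pow_eq_pow_val, pow_three, ← mul_assoc]; exact hcube)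
  have hy03 : y0 ^ 3 ∈ O := (D.ker _).1 (by rw [map_pow, hy0, hd3])
  obtain ⟨n, hn⟩ := D.two ⟨y0 ^ 3, hy03⟩
  have hn' : (y0 ^ 3) ^ 2 ^ n = 1 := congrArg Subtype.val hn
  set y := y0 ^ 4 ^ n with hy
  have hy3 : y ^ 3 = 1 := by
    rw [hy, ← pow_mul, mul_comm, pow_mul, show (4 : ℕ) ^ n = 2 ^ n * 2 ^ n by rw [← mul_pow]; norm_num,
      pow_mul, hn', one_pow]
  have hdn : ∀ m : ℕ, dGL a b c ^ 4 ^ m = dGL a b c := by
    intro m
    induction m with
    | zero => rw [pow_zero, pow_one]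
    | succ m ih => rw [pow_succ, pow_mul, ih, pow_succ, hd3, one_mul]
  have hρy : (ρ y).1 = ofCode (dcode a b c).1 := by rw [hy, map_pow, hy0, hdn]; rfl
  set k := y * w * y⁻¹ * w⁻¹ with hk
  have hkO : k ∈ O := by
    refine (D.ker _).1 ?_
    have hc : ρ y * ρ w = ρ w * ρ y := Units.ext (by
      rw [Units.val_mul, Units.val_mul, hρy, hw]; exact hcomm)
    rw [hk, map_mul, map_mul, map_mul, map_inv, map_inv, hc]; group
  set T := (ρ w).1 with hT
  set E := (ρ y).1 with hE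
  have conjO : ∀ g, ∀ q ∈ O, g * q * g⁻¹ ∈ O := fun g q hq => D.normal.conj_mem q hq g
  have hc0 : E *ᵥ (E *ᵥ e k) + E *ᵥ e k + e k = 0 := by
    have e1 : y * (y * k * y⁻¹) * y⁻¹ * (y * k * y⁻¹) * k = 1 := by
      calc y * (y * k * y⁻¹) * y⁻¹ * (y * k * y⁻¹) * k = y ^ 3 * w * (y ^ 3)⁻¹ * w⁻¹ := by
            rw [hk, pow_three]; group
        _ = 1 := by rw [hy3, one_mul, inv_one, mul_one, mul_inv_cancel]
    have h1 := congrArg e e1
    rwa [e_one D, D.add _ (mul_mem (conjO _ _ (conjO _ _ hkO)) (conjO _ _ hkO)) _ hkO,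
      D.add _ (conjO _ _ (conjO _ _ hkO)) _ (conjO _ _ hkO), D.act _ _ (conjO _ _ hkO),
      D.act _ _ hkO] at h1
  obtain ⟨q, hq, heq⟩ := D.surj (E *ᵥ e k)
  set x := q * w with hx
  set k' := y * x * y⁻¹ * x⁻¹ with hk'
  have hk'e : k' = y * q * y⁻¹ * k * q⁻¹ := by rw [hk', hx, hk]; group
  have hk'O : k' ∈ O := hk'e ▸ mul_mem (mul_mem (conjO y q hq) hkO) (inv_mem hq)
  have hk'0 : e k' = 0 := by
    rw [hk'e, D.add _ (mul_mem (conjO y q hq) hkO) _ (inv_mem hq), D.add _ (conjO y q hq) _ hkO,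
      D.act y q hq, e_inv D hq, heq, add_assoc, add_comm (e k), ← add_assoc]
    exact hc0
  have hρx : (ρ x).1 = T := by rw [hx, map_mul, (D.ker q).2 hq, one_mul]
  have hTT : T * T = 1 := by
    rw [hw, U_mul, show ∀ x : ZMod 2, x + x = 0 by decide, show ∀ x : ZMod 2, x + x = 0 by decide,
      show ∀ x : ZMod 2, x + x = 0 by decide, U_zero]
  have hsqO : ∀ g, (ρ g).1 = T → g ^ 2 ∈ O := fun g hg => (D.ker _).1 (Units.ext (by
    rw [map_pow, Units.val_pow_eq_pow_val, hg, pow_two, hTT, Units.val_one]))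
  have hfixT : T *ᵥ e (x ^ 2) = e (x ^ 2) := by
    rw [← hρx, ← D.act x _ (hsqO x hρx)]
    congr 1
    rw [pow_two]; group
  have hfixE : E *ᵥ e (x ^ 2) = e (x ^ 2) := by
    rw [← D.act y _ (hsqO x hρx)]
    have e1 : y * x ^ 2 * y⁻¹ = k' * (x * k' * x⁻¹) * x ^ 2 := by rw [hk', pow_two]; group
    rw [e1, D.add _ (mul_mem hk'O (conjO _ _ hk'O)) _ (hsqO x hρx), D.add _ hk'O _ (conjO _ _ hk'O),
      D.act _ _ hk'O, hk'0, Matrix.mulVec_zero, add_zero, zero_add]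
  obtain ⟨h2, h3⟩ := d_fixed a b c (e (x ^ 2)) hne (by rw [← hw]; exact hfixT)
    (by rw [← hρy]; exact hfixE)
  have hwO : w ^ 2 ∈ O := hsqO w rfl
  have e2 : x ^ 2 = q * (w * q * w⁻¹) * w ^ 2 := by rw [hx, pow_two, pow_two]; group
  have e3 : e (x ^ 2) = e q + T *ᵥ e q + e (w ^ 2) := by
    rw [e2, D.add _ (mul_mem hq (conjO _ _ hq)) _ hwO, D.add _ hq _ (conjO _ _ hq), D.act _ _ hq]
  obtain ⟨hl2, hl3⟩ := U_low a b c (e q)
  rw [e3, Pi.add_apply, Pi.add_apply, hw, hl2,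
    (show ∀ x : ZMod 2, x + x = 0 by decide), zero_add] at h2
  rw [e3, Pi.add_apply, Pi.add_apply, hw, hl3,
    (show ∀ x : ZMod 2, x + x = 0 by decide), zero_add] at h3
  exact ⟨h2, h3⟩

/-- There is an elementary abelian section of order at least thirty-two. -/
theorem not_sectional [Finite X] : ¬ Cfsg.SectionalPRankLE 2 4 X := by
  intro hr
  classical
  haveI := D.normal
  have conjO : ∀ g, ∀ q ∈ O, g * q * g⁻¹ ∈ O := fun g q hq => D.normal.conj_mem q hq g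
  have hU : ∀ x : ZMod 2, x + x = 0 := by decide
  let W : Subgroup X :=
    { carrier := {g | ∃ a b c, ρ g = uGL a b c}
      one_mem' := ⟨0, 0, 0, Units.ext (by rw [map_one]; exact U_zero.symm)⟩
      mul_mem' := by
        rintro g g' ⟨a, b, c, h⟩ ⟨a', b', c', h'⟩
        exact ⟨a + a', b + b', c + c', Units.ext (by rw [map_mul, h, h']; exact U_mul a b c a' b' c')⟩
      inv_mem' := by
        rintro g ⟨a, b, c, h⟩
        exact ⟨a, b, c, by rw [map_inv, h]; exact Units.ext rfl⟩ }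
  let N : Subgroup W :=
    { carrier := {g | (g : X) ∈ O ∧ e g 2 = 0 ∧ e g 3 = 0}
      one_mem' := ⟨one_mem _, by rw [Subgroup.coe_one, e_one D]; rfl, by rw [Subgroup.coe_one, e_one D]; rfl⟩
      mul_mem' := by
        rintro g g' ⟨h1, h2, h3⟩ ⟨k1, k2, k3⟩
        refine ⟨mul_mem h1 k1, ?_, ?_⟩ <;> rw [Subgroup.coe_mul, D.add _ h1 _ k1, Pi.add_apply]
        · rw [h2, k2, add_zero]
        · rw [h3, k3, add_zero]
      inv_mem' := by
        rintro g ⟨h1, h2, h3⟩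
        exact ⟨inv_mem h1, by rw [Subgroup.coe_inv, e_inv D h1]; exact h2,
          by rw [Subgroup.coe_inv, e_inv D h1]; exact h3⟩ }
  have hlow : ∀ (g : W), ∀ v, ((ρ g).1 *ᵥ v) 2 = v 2 ∧ ((ρ g).1 *ᵥ v) 3 = v 3 := by
    intro g v
    obtain ⟨a, b, c, h⟩ := g.2
    rw [h]; exact U_low a b c v
  haveI hN : N.Normal := ⟨fun n hn g => by
    refine ⟨conjO _ _ hn.1, ?_, ?_⟩
    · show e ((g : X) * n * (g : X)⁻¹) 2 = 0
      rw [D.act _ _ hn.1, (hlow g _).1]; exact hn.2.1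
    · show e ((g : X) * n * (g : X)⁻¹) 3 = 0
      rw [D.act _ _ hn.1, (hlow g _).2]; exact hn.2.2⟩
  have hsq : ∀ g : W, g ^ 2 ∈ N := by
    intro g
    obtain ⟨a, b, c, h⟩ := g.2
    have hO : ((g : X)) ^ 2 ∈ O := (D.ker _).1 (Units.ext (by
      rw [map_pow, h, Units.val_pow_eq_pow_val, pow_two]
      show U a b c * U a b c = 1
      rw [U_mul, hU, hU, hU, U_zero]))
    by_cases hne : (a, b, c) = (0, 0, 0)
    · simp only [Prod.mk.injEq] at hne
      obtain ⟨rfl, rfl, rfl⟩ := hne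
      have hgO : (g : X) ∈ O := (D.ker _).1 (Units.ext (by rw [h]; exact U_zero))
      have he : e ((g : X) ^ 2) = 0 := by rw [pow_two, D.add _ hgO _ hgO, add_self_zero]
      exact ⟨by rw [Subgroup.coe_pow]; exact hO, by rw [Subgroup.coe_pow, he]; rfl,
        by rw [Subgroup.coe_pow, he]; rfl⟩
    · obtain ⟨h2, h3⟩ := sq_low D hne (w := (g : X)) (by rw [h]; rfl)
      exact ⟨by rw [Subgroup.coe_pow]; exact hO, by rw [Subgroup.coe_pow]; exact h2,
        by rw [Subgroup.coe_pow]; exact h3⟩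
  have hexp : ∀ q : W ⧸ N, q ^ 2 = 1 := by
    intro q
    induction q using QuotientGroup.induction_on with
    | H g => rw [← QuotientGroup.mk_pow, QuotientGroup.eq_one_iff]; exact hsq g
  have hcomm : ∀ p q : W ⧸ N, p * q = q * p := by
    have hi : ∀ q : W ⧸ N, q⁻¹ = q := fun q =>
      inv_eq_of_mul_eq_one_right (by rw [← pow_two]; exact hexp q)
    intro p q
    rw [← hi (p * q), _root_.mul_inv_rev, hi, hi]
  choose gU hgU using fun abc : ZMod 2 × ZMod 2 × ZMod 2 =>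
    D.range (uGL abc.1 abc.2.1 abc.2.2) (uGL_mem _ _ _)
  choose qV hqV hqe using fun lo : ZMod 2 × ZMod 2 => D.surj ![0, 0, lo.1, lo.2]
  let wU : ZMod 2 × ZMod 2 × ZMod 2 → W := fun abc => ⟨gU abc, _, _, _, hgU abc⟩
  let wV : ZMod 2 × ZMod 2 → W := fun lo => ⟨qV lo, 0, 0, 0, by
    rw [(D.ker _).2 (hqV lo)]; exact Units.ext U_zero.symm⟩
  let f : (ZMod 2 × ZMod 2 × ZMod 2) × (ZMod 2 × ZMod 2) → W ⧸ N :=
    fun t => QuotientGroup.mk (wV t.2 * wU t.1)
  have hf : Function.Injective f := by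
    rintro ⟨u, l⟩ ⟨u', l'⟩ he
    have hmem := QuotientGroup.eq.1 he
    obtain ⟨hO, h2, h3⟩ := hmem
    simp only [Subgroup.coe_mul, Subgroup.coe_inv] at hO h2 h3
    have hu : u = u' := by
      have h := (D.ker _).2 hO
      rw [map_mul, map_inv, map_mul, map_mul] at h
      simp only [wU, wV] at h
      rw [(D.ker _).2 (hqV l), (D.ker _).2 (hqV l'), one_mul, one_mul, inv_mul_eq_one, hgU, hgU] at h
      obtain ⟨ha, hb, hc⟩ := U_inj _ _ _ _ _ _ (congrArg Units.val h)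
      exact Prod.ext ha (Prod.ext hb hc)
    subst hu
    simp only [wU, wV] at h2 h3
    have hqq : (qV l)⁻¹ * qV l' ∈ O := mul_mem (inv_mem (hqV l)) (hqV l')
    have e1 : (qV l * gU u)⁻¹ * (qV l' * gU u) = (gU u)⁻¹ * ((qV l)⁻¹ * qV l') * (gU u)⁻¹⁻¹ := by
      group
    rw [e1, D.act _ _ hqq, D.add _ (inv_mem (hqV l)) _ (hqV l'), e_inv D (hqV l), hqe, hqe,
      map_inv, hgU] at h2 h3
    have hl := U_low u.1 u.2.1 u.2.2 (![0, 0, l.1, l.2] + ![0, 0, l'.1, l'.2])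
    have h2' : (U u.1 u.2.1 u.2.2 *ᵥ (![0, 0, l.1, l.2] + ![0, 0, l'.1, l'.2])) 2 = 0 := h2
    have h3' : (U u.1 u.2.1 u.2.2 *ᵥ (![0, 0, l.1, l.2] + ![0, 0, l'.1, l'.2])) 3 = 0 := h3
    rw [hl.1] at h2'
    rw [hl.2] at h3'
    have key : ∀ x x' : ZMod 2, x + x' = 0 → x = x' := by decide
    exact Prod.ext rfl (Prod.ext (key _ _ h2') (key _ _ h3'))
  have hcard := hr W N ⊤ ⟨⟨fun p q => Subtype.ext (hcomm p q)⟩⟩ (fun q _ => hexp q)
  rw [Subgroup.card_top] at hcard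
  have := Nat.card_le_card_of_injective f hf
  simp only [Nat.card_prod, Nat.card_zmod] at this
  omega

end CfsgLib.Sectional.RankFive
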