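import Mathlib
import Cfsg.Prelude.Def_CaseTheorems
import Cfsg.Agent.Lib.Components.Constrained
import Cfsg.Agent.Lib.Coprime.Action
import Cfsg.Agent.Lib.PGroup.Frattini
import Cfsg.Agent.Lib.Sectional.RankFive

/-!
# The linear action of a two-constrained group on the Frattini quotient of its two-core

When the two-core has sectional rank at most four the quotient embeds in `GL₄(2)`; if it induces the
symplectic group then the whole group has sectional rank at least five.
-/

set_option autoImplicit false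
set_option linter.style.haveILetI false
set_option linter.unusedSimpArgs false

namespace CfsgLib.Sectional.FrattiniAction

open CfsgLib Matrix

universe u

/-- The action on a space of dimension four containing the Frattini quotient. -/
theorem exists_action {X : Type u} [Group X] [Finite X] (hc : Cfsg.IsPConstrained 2 X) (hO : Cfsg.oddCore X = ⊥)
    (h4 : Cfsg.SectionalPRankLE 2 4 ↥(Cfsg.pCore 2 X)) :
    ∃ (ρ : X →* GL (Fin 4) (ZMod 2)) (e : X → Fin 4 → ZMod 2),
      (∀ g, ρ g = 1 ↔ g ∈ Cfsg.pCore 2 X) ∧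
      (∀ p ∈ Cfsg.pCore 2 X, ∀ q ∈ Cfsg.pCore 2 X, e (p * q) = e p + e q) ∧
      (∀ g, ∀ q ∈ Cfsg.pCore 2 X, e (g * q * g⁻¹) = (ρ g).1 *ᵥ e q) ∧
      ((∀ v, ∃ q ∈ Cfsg.pCore 2 X, e q = v) ∨ ∃ v, v ≠ 0 ∧ ∀ g, (ρ g).1 *ᵥ v = v) ∧
      (∀ g, (∀ q ∈ Cfsg.pCore 2 X, e (g * q * g⁻¹) = e q) → g ∈ Cfsg.pCore 2 X) := by
  classical
  haveI : Fact (Nat.Prime 2) := ⟨Nat.prime_two⟩
  set Q := Cfsg.pCore 2 X with hQdef
  haveI hQn : Q.Normal := CfsgLib.Solvable.Cores.pCore_normal 2
  have hQ2 : IsPGroup 2 Q := CfsgLib.Solvable.Cores.isPGroup_pCore 2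
  have hCQ : Subgroup.centralizer (Q : Set X) ≤ Q :=
    (Components.centralizer_pCore_le_iff_layer hO).mpr
      (Components.layer_eq_bot_of_pLayer hO (Components.isPConstrained_iff.mp hc))
  have hVab := fun a b => CfsgLib.PGroup.Frattini.quotient_mul_comm hQ2 a b
  have hV2 := fun a => CfsgLib.PGroup.Frattini.quotient_pow_eq_one hQ2 a
  have hcard : Nat.card (Q ⧸ frattini Q) ≤ 16 := by
    have h := h4 ⊤ ((frattini Q).subgroupOf ⊤) ⊤
    let π : (⊤ : Subgroup Q) →* Q ⧸ frattini Q := (QuotientGroup.mk' (frattini Q)).comp (⊤ : Subgroup Q).subtype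
    have hπ : Function.Surjective π := fun v => by
      obtain ⟨v, rfl⟩ := QuotientGroup.mk'_surjective (frattini Q) v
      exact ⟨⟨v, Subgroup.mem_top v⟩, rfl⟩
    have hker : π.ker = (frattini Q).subgroupOf ⊤ := by
      ext v
      exact QuotientGroup.eq_one_iff (v : Q)
    let e := (QuotientGroup.quotientMulEquivOfEq hker.symm).trans (QuotientGroup.quotientKerEquivOfSurjective π hπ)
    have h2 := h ⟨⟨fun a b => Subtype.ext (e.injective (by rw [Subgroup.coe_mul, Subgroup.coe_mul, map_mul, map_mul]; exact hVab _ _))⟩⟩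
      (fun a _ => e.injective (by rw [map_pow, map_one]; exact hV2 _))
    rw [Subgroup.card_top, Nat.card_congr e.toEquiv] at h2
    exact h2
  -- the action on the Frattini quotient
  let cj : X →* MulAut Q := MulAut.conjNormal
  have hchar : ∀ g : X, (frattini Q).map (cj g : Q ≃* Q).toMonoidHom = frattini Q := fun g =>
    Subgroup.characteristic_iff_map_eq.1 inferInstance (cj g)
  let φ : X →* MulAut (Q ⧸ frattini Q) :=
    { toFun := fun g => QuotientGroup.congr _ _ (cj g) (hchar g)
      map_one' := MulEquiv.ext fun v => by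
        induction v using QuotientGroup.induction_on with
        | _ v => exact congrArg QuotientGroup.mk (by rw [map_one]; rfl)
      map_mul' := fun a b => MulEquiv.ext fun v => by
        induction v using QuotientGroup.induction_on with
        | _ v => exact congrArg QuotientGroup.mk (by rw [map_mul]; rfl) }
  have hφ : ∀ (g : X) (v : Q), φ g (v : Q ⧸ frattini Q) = ((cj g v : Q) : Q ⧸ frattini Q) := fun _ _ => rfl
  have hKQ : φ.ker = Q := by
    refine le_antisymm ?_ ?_
    · refine CfsgLib.Solvable.Cores.le_pCore ?_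
      -- the kernel is a 2-group
      rintro ⟨g, hg⟩
      obtain ⟨a, m, hm, he⟩ := Nat.exists_eq_pow_mul_and_not_dvd (orderOf_pos g).ne' 2 (by norm_num)
      refine ⟨a, Subtype.ext ?_⟩
      show g ^ 2 ^ a = 1
      set h := g ^ 2 ^ a with hh
      have hord : orderOf h = m := by
        rw [hh, orderOf_pow_of_dvd (by simp) (by rw [he]; exact dvd_mul_right _ m), he,
          Nat.mul_div_cancel_left _ (by positivity)]
      have hhK : h ∈ φ.ker := pow_mem hg _
      let N : Subgroup X := (frattini Q).map Q.subtype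
      haveI hNn : N.Normal := inferInstance
      have hcop : (Nat.card (Subgroup.zpowers h)).Coprime (Nat.card N) := by
        obtain ⟨j, hj⟩ := IsPGroup.iff_card.1 ((hQ2.to_subgroup (frattini Q)).map Q.subtype)
        rw [Nat.card_zpowers, hord, hj]
        exact ((Nat.prime_two.coprime_iff_not_dvd.2 hm).pow_left j).symm
      have hcen : ∀ q : Q, h * (q : X) = (q : X) * h := by
        let Cq : Subgroup Q := (Subgroup.centralizer ({h} : Set X)).subgroupOf Q
        have htop : Cq ⊔ frattini Q = ⊤ := by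
          rw [eq_top_iff]
          intro q _
          obtain ⟨n, hn, hnq⟩ := CfsgLib.Coprime.exists_mul_mem_centralizer (A := Subgroup.zpowers h) (N := N)
            (k := (q : X)) (by rw [Subgroup.normalizer_eq_top]; exact le_top) hcop
            (Or.inr (IsNilpotent.to_isSolvable
              (h := ((hQ2.to_subgroup (frattini Q)).map Q.subtype).isNilpotent)))
            (fun b hb => by
              have hbK : φ b = 1 := (Subgroup.zpowers_le.2 hhK) hb
              have h1 := hφ b q
              rw [hbK, MulAut.one_apply] at h1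
              have h2 : ((cj b q : Q) * q⁻¹) ∈ frattini Q := by
                rw [← QuotientGroup.eq_one_iff, QuotientGroup.mk_mul, QuotientGroup.mk_inv, ← h1, mul_inv_cancel]
              exact ⟨_, h2, by simp [cj, commutatorElement_def]⟩)
          obtain ⟨n', hn', rfl⟩ := hn
          have h3 : n' * q ∈ Cq := by
            refine Subgroup.mem_subgroupOf.2 (Subgroup.mem_centralizer_singleton_iff.2 ?_)
            exact (Subgroup.mem_centralizer_iff.1 hnq h (Subgroup.mem_zpowers h)).symm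
          have h4 : q = n'⁻¹ * (n' * q) := (inv_mul_cancel_left n' q).symm
          rw [h4]
          exact mul_mem (Subgroup.mem_sup_right (inv_mem hn')) (Subgroup.mem_sup_left h3)
        intro q
        have h5 : q ∈ Cq := by rw [frattini_nongenerating htop]; exact Subgroup.mem_top q
        exact (Subgroup.mem_centralizer_singleton_iff.1 (Subgroup.mem_subgroupOf.1 h5)).symm
      have hhQ : h ∈ Q := hCQ (Subgroup.mem_centralizer_iff.2 fun q hq => (hcen ⟨q, hq⟩).symm)
      obtain ⟨i, hi⟩ := IsPGroup.iff_orderOf.1 hQ2 ⟨h, hhQ⟩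
      rw [Subgroup.orderOf_mk, hord] at hi
      rcases i with _ | i
      · rw [← orderOf_eq_one_iff, hord, hi, pow_zero]
      · exact absurd (hi ▸ dvd_pow_self 2 i.succ_ne_zero) hm
    · intro q hq
      rw [MonoidHom.mem_ker]
      refine MulEquiv.ext fun v => ?_
      induction v using QuotientGroup.induction_on with
      | _ v =>
        rw [hφ, show cj q v = (⟨q, hq⟩ : Q) * v * (⟨q, hq⟩ : Q)⁻¹ from Subtype.ext (by simp [cj]),
          QuotientGroup.mk_mul, QuotientGroup.mk_mul, QuotientGroup.mk_inv, hVab ((⟨q, hq⟩ : Q) : Q ⧸ frattini Q) (v : Q ⧸ frattini Q),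
          mul_inv_cancel_right]
        rfl
  letI : CommGroup (Q ⧸ frattini Q) :=
    { (inferInstance : Group (Q ⧸ frattini Q)) with mul_comm := hVab }
  have hp : IsPGroup 2 (Q ⧸ frattini Q) := hQ2.to_quotient _
  obtain ⟨j, hj⟩ := IsPGroup.iff_card.1 hp
  have hj4 : j ≤ 4 := by
    by_contra h
    have := Nat.pow_le_pow_right (show 0 < 2 by norm_num) (show 5 ≤ j by omega)
    rw [← hj] at this
    omega
  have hW2 : ∀ w : Additive (Q ⧸ frattini Q) × (Fin (4 - j) → ZMod 2), 2 • w = 0 := by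
    rintro ⟨v, f⟩
    refine Prod.ext ?_ ?_
    · exact congrArg Additive.ofMul (hV2 v.toMul)
    · funext i
      show 2 • f i = 0
      rw [two_nsmul]; exact CharTwo.add_self_eq_zero _
  letI : Module (ZMod 2) (Additive (Q ⧸ frattini Q) × (Fin (4 - j) → ZMod 2)) :=
    AddCommGroup.zmodModule hW2
  have hWc : Nat.card (Additive (Q ⧸ frattini Q) × (Fin (4 - j) → ZMod 2)) = 2 ^ 4 := by
    rw [Nat.card_prod, Nat.card_congr Additive.toMul, hj, Nat.card_fun, Nat.card_zmod, Nat.card_fin,
      ← pow_add]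
    congr 1; omega
  have hfr : Module.finrank (ZMod 2) (Additive (Q ⧸ frattini Q) × (Fin (4 - j) → ZMod 2)) = 4 := by
    haveI := Fintype.ofFinite (Additive (Q ⧸ frattini Q) × (Fin (4 - j) → ZMod 2))
    have := Module.card_eq_pow_finrank (K := ZMod 2)
      (V := Additive (Q ⧸ frattini Q) × (Fin (4 - j) → ZMod 2))
    rw [← Nat.card_eq_fintype_card, hWc, ZMod.card] at this
    exact (Nat.pow_right_injective le_rfl this).symm
  let b : (Additive (Q ⧸ frattini Q) × (Fin (4 - j) → ZMod 2)) ≃ₗ[ZMod 2] (Fin 4 → ZMod 2) :=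
    LinearEquiv.ofFinrankEq _ _ (by rw [hfr]; simp)
  let pad : X → Module.End (ZMod 2) (Additive (Q ⧸ frattini Q) × (Fin (4 - j) → ZMod 2)) := fun g =>
    AddMonoidHom.toZModLinearMap 2
      (AddMonoidHom.prodMap (MonoidHom.toAdditive (φ g).toMonoidHom) (AddMonoidHom.id _))
  have hpad1 : pad 1 = 1 := LinearMap.ext fun w => by
    show (Additive.ofMul (φ 1 w.1.toMul), w.2) = w
    rw [map_one]; rfl
  have hpadm : ∀ g k, pad (g * k) = pad g * pad k := fun g k => LinearMap.ext fun w => by
    show (Additive.ofMul (φ (g * k) w.1.toMul), w.2) = (Additive.ofMul (φ g (φ k w.1.toMul)), w.2)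
    rw [map_mul]; rfl
  let mat : X →* Matrix (Fin 4) (Fin 4) (ZMod 2) :=
    { toFun := fun g => LinearMap.toMatrix' ((b.toLinearMap.comp (pad g)).comp b.symm.toLinearMap)
      map_one' := by
        rw [hpad1]
        convert LinearMap.toMatrix'_id using 2
        ext w; simp
      map_mul' := fun g k => by
        rw [← LinearMap.toMatrix'_comp, hpadm]
        congr 1
        ext w; simp [Module.End.mul_eq_comp] }
  let ρ : X →* GL (Fin 4) (ZMod 2) := mat.toHomUnits
  have hρ : ∀ g w, (ρ g).1 *ᵥ b w = b (pad g w) := fun g w => by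
    show LinearMap.toMatrix' ((b.toLinearMap.comp (pad g)).comp b.symm.toLinearMap) *ᵥ b w = _
    rw [LinearMap.toMatrix'_mulVec]
    simp
  let e : X → Fin 4 → ZMod 2 := fun x =>
    if h : x ∈ Q then b (Additive.ofMul ((⟨x, h⟩ : Q) : Q ⧸ frattini Q), 0) else 0
  refine ⟨ρ, e, fun g => ?_, fun p hp' q hq => ?_, fun g q hq => ?_, ?_, fun g hg => ?_⟩
  · constructor
    · intro hg
      rw [← hKQ, MonoidHom.mem_ker]
      refine MulEquiv.ext fun v => ?_
      have h := hρ g (Additive.ofMul v, 0)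
      rw [hg, Units.val_one, Matrix.one_mulVec] at h
      exact (congrArg (fun w : Additive (Q ⧸ frattini Q) × (Fin (4 - j) → ZMod 2) => w.1.toMul)
        (b.injective h)).symm
    · intro hg
      rw [← hKQ, MonoidHom.mem_ker] at hg
      refine Units.ext (Matrix.mulVec_injective (funext fun v => ?_))
      obtain ⟨w, rfl⟩ := b.surjective v
      rw [hρ, Units.val_one, Matrix.one_mulVec]
      congr 1
      show (Additive.ofMul (φ g w.1.toMul), w.2) = w
      rw [hg]; rfl
  · simp only [e, dif_pos hp', dif_pos hq, dif_pos (mul_mem hp' hq)]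
    rw [← map_add]
    congr 1
  · have hgq : g * q * g⁻¹ ∈ Q := hQn.conj_mem q hq g
    simp only [e, dif_pos hq, dif_pos hgq]
    rw [hρ]
    congr 1
  · by_cases hj' : j = 4
    · refine Or.inl fun v => ?_
      obtain ⟨⟨w, f⟩, rfl⟩ := b.surjective v
      obtain ⟨q, hq⟩ := QuotientGroup.mk'_surjective (frattini Q) w.toMul
      refine ⟨q, q.2, ?_⟩
      simp only [e, dif_pos q.2]
      congr 1
      refine Prod.ext ?_ (funext fun i => absurd i.2 (by omega))
      show Additive.ofMul ((q : Q) : Q ⧸ frattini Q) = w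
      rw [← QuotientGroup.mk'_apply, hq]; rfl
    · refine Or.inr ⟨b (0, fun _ => 1), fun h => ?_, fun g => ?_⟩
      · have h2 := congrArg Prod.snd (b.injective (h.trans (map_zero b).symm))
        exact one_ne_zero (congrFun h2 ⟨0, by omega⟩)
      · rw [hρ]
        congr 1
        show (Additive.ofMul (φ g 1), _) = _
        rw [map_one]; rfl
  · rw [← hKQ, MonoidHom.mem_ker]
    refine MulEquiv.ext fun v => ?_
    induction v using QuotientGroup.induction_on with
    | _ q =>
      have hgq : g * (q : X) * g⁻¹ ∈ Q := hQn.conj_mem q q.2 g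
      have h := hg q q.2
      simp only [e, dif_pos q.2, dif_pos hgq] at h
      have h' := congrArg (fun w : Additive (Q ⧸ frattini Q) × (Fin (4 - j) → ZMod 2) => w.1.toMul)
        (b.injective h)
      rw [MulAut.one_apply, hφ]
      exact h'

/-- If the quotient has order `720` or `20160` then the sectional rank exceeds four. -/
theorem not_sectional {X : Type u} [Group X] [Finite X] (hc : Cfsg.IsPConstrained 2 X)
    (hO : Cfsg.oddCore X = ⊥) (h4 : Cfsg.SectionalPRankLE 2 4 ↥(Cfsg.pCore 2 X))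
    (hcard : Nat.card (X ⧸ Cfsg.pCore 2 X) = 720 ∨ Nat.card (X ⧸ Cfsg.pCore 2 X) = 20160) :
    ¬ Cfsg.SectionalPRankLE 2 4 X := by
  obtain ⟨ρ, e, hker, hadd, hact, hsurj, -⟩ := exists_action hc hO h4
  have hk : ρ.ker = Cfsg.pCore 2 X := by ext g; exact hker g
  have hr : Nat.card ρ.range = Nat.card (X ⧸ Cfsg.pCore 2 X) := by
    rw [← Subgroup.index_ker, hk]; rfl
  obtain ⟨g0, hg0⟩ : ∃ g0, ∀ x ∈ SpFourTwo.sp, g0 * x * g0⁻¹ ∈ ρ.range := by
    rcases hcard with h | h
    · exact SpFourTwo.exists_conj (hr.trans h)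
    · refine ⟨1, fun x _ => ?_⟩
      rw [Subgroup.eq_top_of_card_eq ρ.range (by rw [hr, h, SpFourTwo.card_gl])]
      exact Subgroup.mem_top _
  let ρ' : X →* GL (Fin 4) (ZMod 2) := (MulAut.conj g0⁻¹).toMonoidHom.comp ρ
  let e' : X → Fin 4 → ZMod 2 := fun x => (g0⁻¹).1 *ᵥ e x
  have hρ' : ∀ g, ρ' g = g0⁻¹ * ρ g * g0 := fun g => by
    show g0⁻¹ * ρ g * g0⁻¹⁻¹ = _
    rw [inv_inv]
  refine RankFive.not_sectional (O := Cfsg.pCore 2 X) (ρ := ρ') (e := e')
    ⟨CfsgLib.Solvable.Cores.pCore_normal 2, CfsgLib.Solvable.Cores.isPGroup_pCore 2, fun g => ?_,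
      fun p hp q hq => ?_, fun g q hq => ?_, ?_, fun s hs => ?_⟩
  · rw [← hker g, hρ', show g0⁻¹ * ρ g * g0 = g0⁻¹ * ρ g * g0⁻¹⁻¹ by rw [inv_inv], conj_eq_one_iff]
  · show (g0⁻¹).1 *ᵥ e (p * q) = _
    rw [hadd p hp q hq, Matrix.mulVec_add]
  · show (g0⁻¹).1 *ᵥ e (g * q * g⁻¹) = (ρ' g).1 *ᵥ ((g0⁻¹).1 *ᵥ e q)
    rw [hact g q hq, Matrix.mulVec_mulVec, Matrix.mulVec_mulVec, hρ', ← Units.val_mul, ← Units.val_mul,
      mul_inv_cancel_right]
  · rcases hsurj with hs | ⟨v, hv, hfix⟩
    · intro w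
      obtain ⟨q, hq, hqe⟩ := hs (g0.1 *ᵥ w)
      refine ⟨q, hq, ?_⟩
      show (g0⁻¹).1 *ᵥ e q = w
      rw [hqe, Matrix.mulVec_mulVec, ← Units.val_mul, inv_mul_cancel, Units.val_one, Matrix.one_mulVec]
    · refine absurd ?_ hv
      have h0 : (g0⁻¹).1 *ᵥ v = 0 := SpFourTwo.no_fixed fun x hx => by
        obtain ⟨g, hg⟩ := hg0 x hx
        have hgv := hfix g
        rw [hg] at hgv
        calc x.1 *ᵥ ((g0⁻¹).1 *ᵥ v) = (g0⁻¹).1 *ᵥ ((g0 * x * g0⁻¹).1 *ᵥ v) := by
              rw [Matrix.mulVec_mulVec, Matrix.mulVec_mulVec, ← Units.val_mul, ← Units.val_mul]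
              group
          _ = _ := by rw [hgv]
      have := congrArg (fun w => g0.1 *ᵥ w) h0
      simpa [Matrix.mulVec_mulVec, ← Units.val_mul] using this
  · obtain ⟨g, hg⟩ := hg0 s hs
    exact ⟨g, by rw [hρ', hg]; group⟩

end CfsgLib.Sectional.FrattiniAction
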